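import Cfsg.Agent.SylowNum.Tools

/-!
# A Sylow 11-subgroup of order 11 acting semiregularly on 11 or 22 points
-/

namespace Cfsg.Agent.SylowNum

open MulAction

variable {G : Type*} [Group G] [Finite G]

local instance fact_prime_eleven : Fact (Nat.Prime 11) := ⟨by norm_num⟩

theorem card_orbit_eleven {α : Type*} [MulAction G α] [Finite α] (R : Sylow 11 G)
    (hR : Nat.card R = 11) (hfree : ∀ a : α, ¬ (R : Subgroup G) ≤ stabilizer G a) (a : α) :
    Nat.card (orbit (↥(R : Subgroup G)) a) = 11 := by
  have h1 := (stabilizer (↥(R : Subgroup G)) a).card_mul_index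
  have h2 : (stabilizer (↥(R : Subgroup G)) a).index ∣ 11 := ⟨_, by rw [mul_comm, h1, hR]⟩
  rcases (Nat.dvd_prime (by norm_num)).1 h2 with h | h
  · exfalso
    apply hfree a
    intro r hr
    have : (⟨r, hr⟩ : ↥(R : Subgroup G)) ∈ stabilizer (↥(R : Subgroup G)) a :=
      (Subgroup.index_eq_one.1 h) ▸ Subgroup.mem_top _
    exact this
  · rw [Nat.card_coe_set_eq, ← index_stabilizer, h]

/-- The centraliser is the Sylow subgroup itself. -/
theorem centralizer_eleven [IsSimpleGroup G] (hG : ¬ IsMulCommutative G) {α : Type*} [MulAction G α]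
    [Finite α] [FaithfulSMul G α] (R : Sylow 11 G) (hR : Nat.card R = 11)
    (hfree : ∀ a : α, ¬ (R : Subgroup G) ≤ stabilizer G a)
    (hα : Nat.card α = 11 ∨ Nat.card α = 22) :
    Subgroup.centralizer ((R : Subgroup G) : Set G) = (R : Subgroup G) := by
  classical
  have hcyc : IsCyclic ↥(R : Subgroup G) := isCyclic_of_prime_card hR
  have hcomm : ∀ r ∈ (R : Subgroup G), ∀ s ∈ (R : Subgroup G), s * r = r * s := fun r hr s hs =>
    congrArg Subtype.val ((IsCyclic.commGroup (α := ↥(R : Subgroup G))).mul_comm ⟨s, hs⟩ ⟨r, hr⟩)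
  have hRC : (R : Subgroup G) ≤ Subgroup.centralizer ((R : Subgroup G) : Set G) := fun r hr =>
    Subgroup.mem_centralizer_iff.2 fun s hs => hcomm r hr s hs
  refine le_antisymm (fun y hy => ?_) hRC
  have hyc : ∀ r ∈ (R : Subgroup G), r * y = y * r := Subgroup.mem_centralizer_iff.1 hy
  have hyr : ∀ r ∈ (R : Subgroup G), ∀ a : α, y • r • a = r • y • a := fun r hr a => by
    rw [← mul_smul, ← hyc r hr, mul_smul]
  by_cases hall : ∀ a : α, ∃ r ∈ (R : Subgroup G), y • a = r • a
  · have hy11 : y ^ 11 = 1 := by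
      apply FaithfulSMul.eq_of_smul_eq_smul (α := α)
      intro a
      obtain ⟨r, hr, hra⟩ := hall a
      have : ∀ n : ℕ, y ^ n • a = r ^ n • a := by
        intro n
        induction n with
        | zero => simp
        | succ n ih =>
          rw [pow_succ', mul_smul, ih, hyr _ (pow_mem hr n), hra, ← mul_smul, ← pow_succ]
      have hr11 : r ^ 11 = 1 := by
        have := pow_card_eq_one' (x := (⟨r, hr⟩ : ↥(R : Subgroup G)))
        rw [hR] at this
        simpa using congrArg Subtype.val this
      rw [this, hr11]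
    have hp : IsPGroup 11 (Subgroup.zpowers y) := by
      rintro ⟨g, hg⟩
      obtain ⟨n, rfl⟩ := Subgroup.mem_zpowers_iff.1 hg
      refine ⟨1, Subtype.ext ?_⟩
      show (y ^ n) ^ (11 ^ 1 : ℕ) = 1
      rw [pow_one, ← zpow_natCast, ← zpow_mul, mul_comm, zpow_mul, zpow_natCast, hy11, one_zpow]
    have hle : Subgroup.zpowers y ≤ Subgroup.normalizer ((R : Subgroup G) : Set G) :=
      Subgroup.zpowers_le.2 (Subgroup.centralizer_le_normalizer _ hy)
    have := R.is_maximal' (hp.to_sup_of_normal_right' R.isPGroup' hle) le_sup_right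
    exact this ▸ (le_sup_left : _ ≤ Subgroup.zpowers y ⊔ R) (Subgroup.mem_zpowers y)
  · exfalso
    push Not at hall
    obtain ⟨a, ha⟩ := hall
    have horb : ∀ b : α, Nat.card (orbit (↥(R : Subgroup G)) b) = 11 := card_orbit_eleven R hR hfree
    have hdis : Disjoint (orbit (↥(R : Subgroup G)) a) (orbit (↥(R : Subgroup G)) (y • a)) := by
      rw [Set.disjoint_left]
      rintro b ⟨r, rfl⟩ ⟨s, hs⟩
      change (s : G) • y • a = (r : G) • a at hs
      apply ha ((s : G)⁻¹ * r) (mul_mem (inv_mem s.2) r.2)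
      rw [mul_smul, ← hs, inv_smul_smul]
    have hcard : Nat.card ↥(orbit (↥(R : Subgroup G)) a ∪ orbit (↥(R : Subgroup G)) (y • a)) = 22 := by
      rw [Nat.card_coe_set_eq, Set.ncard_union_eq hdis, ← Nat.card_coe_set_eq, ← Nat.card_coe_set_eq,
        horb, horb]
    have h22 : Nat.card α = 22 := by
      rcases hα with h | h
      · have hle : Nat.card ↥(orbit (↥(R : Subgroup G)) a ∪ orbit (↥(R : Subgroup G)) (y • a)) ≤ Nat.card α :=
          Nat.card_le_card_of_injective _ Subtype.val_injective
        rw [hcard, h] at hle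
        omega
      · exact h
    have huniv : orbit (↥(R : Subgroup G)) a ∪ orbit (↥(R : Subgroup G)) (y • a) = Set.univ := by
      apply Set.eq_univ_of_forall
      intro b
      have hsurj := ((Nat.bijective_iff_injective_and_card
        (Subtype.val : ↥(orbit (↥(R : Subgroup G)) a ∪ orbit (↥(R : Subgroup G)) (y • a)) → α)).2
        ⟨Subtype.val_injective, by rw [hcard, h22]⟩).2
      obtain ⟨⟨c, hc⟩, rfl⟩ := hsurj b
      exact hc
    -- `y` moves every orbit
    have hmove : ∀ b : α, ∀ r ∈ (R : Subgroup G), y • b ≠ r • b := by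
      intro b r hr hb
      have hb' : b ∈ orbit (↥(R : Subgroup G)) a ∪ orbit (↥(R : Subgroup G)) (y • a) :=
        huniv ▸ Set.mem_univ b
      rcases hb' with ⟨⟨s, hsR⟩, rfl⟩ | ⟨⟨s, hsR⟩, rfl⟩
      · change y • s • a = r • s • a at hb
        rw [hyr s hsR, ← mul_smul r, ← hcomm r hr s hsR, mul_smul] at hb
        exact ha r hr (smul_left_cancel s hb)
      · change y • s • y • a = r • s • y • a at hb
        rw [hyr s hsR, ← mul_smul r, ← hcomm r hr s hsR, mul_smul, ← hyr r hr] at hb
        exact ha r hr (smul_left_cancel y (smul_left_cancel s hb))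
    -- `y²` preserves every orbit
    have hy2 : ∀ b : α, ∃ r ∈ (R : Subgroup G), y • y • b = r • b := by
      intro b
      by_contra hne
      push Not at hne
      have hd1 : ∀ c : α, ∀ r ∈ (R : Subgroup G), y • b ≠ r • b := fun _ => hmove b
      have hmem : ∀ c : α, c ∈ orbit (↥(R : Subgroup G)) b ∪ orbit (↥(R : Subgroup G)) (y • b) := by
        have hdis' : Disjoint (orbit (↥(R : Subgroup G)) b) (orbit (↥(R : Subgroup G)) (y • b)) := by
          rw [Set.disjoint_left]
          rintro c ⟨r, rfl⟩ ⟨s, hs⟩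
          change (s : G) • y • b = (r : G) • b at hs
          apply hmove b ((s : G)⁻¹ * r) (mul_mem (inv_mem s.2) r.2)
          rw [mul_smul, ← hs, inv_smul_smul]
        intro c
        have hsurj := ((Nat.bijective_iff_injective_and_card
          (Subtype.val : ↥(orbit (↥(R : Subgroup G)) b ∪ orbit (↥(R : Subgroup G)) (y • b)) → α)).2
          ⟨Subtype.val_injective, by
            rw [h22, Nat.card_coe_set_eq, Set.ncard_union_eq hdis', ← Nat.card_coe_set_eq,
              ← Nat.card_coe_set_eq, horb, horb]⟩).2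
        obtain ⟨⟨d, hd⟩, rfl⟩ := hsurj c
        exact hd
      rcases hmem (y • y • b) with ⟨⟨r, hr⟩, h⟩ | ⟨⟨r, hr⟩, h⟩
      · exact hne r hr h.symm
      · exact hmove (y • b) r hr h.symm
    have hy22 : y ^ 22 = 1 := by
      apply FaithfulSMul.eq_of_smul_eq_smul (α := α)
      intro b
      obtain ⟨r, hr, hrb⟩ := hy2 b
      have : ∀ n : ℕ, y ^ (2 * n) • b = r ^ n • b := by
        intro n
        induction n with
        | zero => simp
        | succ n ih =>
          rw [show 2 * (n + 1) = 2 + 2 * n by ring, pow_add, mul_smul, ih, pow_two, mul_smul,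
            hyr _ (pow_mem hr n), hyr _ (pow_mem hr n), hrb, ← mul_smul, ← pow_succ]
      have hr11 : r ^ 11 = 1 := by
        have := pow_card_eq_one' (x := (⟨r, hr⟩ : ↥(R : Subgroup G)))
        rw [hR] at this
        simpa using congrArg Subtype.val this
      rw [show 22 = 2 * 11 from rfl, this, hr11]
    have hz : ∀ b : α, y ^ 11 • b ≠ b := by
      intro b hb
      obtain ⟨r, hr, hrb⟩ := hy2 b
      have : ∀ n : ℕ, y ^ (2 * n + 1) • b = r ^ n • y • b := by
        intro n
        induction n with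
        | zero => simp
        | succ n ih =>
          rw [show 2 * (n + 1) + 1 = 2 + (2 * n + 1) by ring, pow_add, mul_smul, ih, pow_two, mul_smul,
            hyr _ (pow_mem hr n), hyr _ (pow_mem hr n), hrb, hyr r hr, ← mul_smul, ← pow_succ]
      rw [show 11 = 2 * 5 + 1 from rfl, this] at hb
      exact hmove b (r ^ 5)⁻¹ (inv_mem (pow_mem hr 5)) (eq_inv_smul_iff.2 hb)
    have h4 := four_dvd_card_moved hG (α := α) (y ^ 11) (by rw [← pow_add]; exact hy22)
    rw [Nat.card_congr (Equiv.subtypeUnivEquiv hz), h22] at h4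
    omega

theorem card_normalizer_eleven [IsSimpleGroup G] (hG : ¬ IsMulCommutative G) (R : Sylow 11 G)
    (hR : Nat.card R = 11)
    (hC : Subgroup.centralizer ((R : Subgroup G) : Set G) = (R : Subgroup G)) :
    ∃ e, (e = 2 ∨ e = 5 ∨ e = 10) ∧
      Nat.card ↥(Subgroup.normalizer ((R : Subgroup G) : Set G)) = 11 * e := by
  obtain ⟨h1, h2⟩ := Cfsg.Agent.SmallGroups.relIndex_centralizer_prime hG R hR
  rw [hC] at h1 h2
  refine ⟨(R : Subgroup G).relIndex (Subgroup.normalizer ((R : Subgroup G) : Set G)), ?_, ?_⟩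
  · have : (R : Subgroup G).relIndex (Subgroup.normalizer ((R : Subgroup G) : Set G)) ∈ Nat.divisors 10 :=
      Nat.mem_divisors.2 ⟨h1, by norm_num⟩
    rw [show Nat.divisors 10 = {1, 2, 5, 10} by decide] at this
    simp only [Finset.mem_insert, Finset.mem_singleton] at this
    omega
  · have := ((R : Subgroup G).subgroupOf (Subgroup.normalizer ((R : Subgroup G) : Set G))).card_mul_index
    rw [Nat.card_congr (Subgroup.subgroupOfEquivOfLe Subgroup.le_normalizer).toEquiv, hR] at this
    exact this.symm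

/-- With 11 points the normalizer of a Sylow 11-subgroup has odd index over it. -/
theorem normalizer_eleven_of_card_eleven [IsSimpleGroup G] (hG : ¬ IsMulCommutative G) {α : Type*}
    [MulAction G α] [Finite α] [FaithfulSMul G α] (R : Sylow 11 G) (hR : Nat.card R = 11)
    (hfree : ∀ a : α, ¬ (R : Subgroup G) ≤ stabilizer G a) (hα : Nat.card α = 11) :
    5 ∣ Nat.card G := by
  classical
  have hC := centralizer_eleven hG R hR hfree (Or.inl hα)
  obtain ⟨e, he, hcard⟩ := card_normalizer_eleven hG R hR hC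
  by_cases h5 : 5 ∣ e
  · exact (h5.trans ⟨11, mul_comm 11 e⟩).trans (hcard ▸ Subgroup.card_subgroup_dvd_card _)
  exfalso
  have he2 : e = 2 := by rcases he with h | h | h <;> subst h <;> first | rfl | omega
  subst he2
  have : Fact (Nat.Prime 2) := ⟨Nat.prime_two⟩
  obtain ⟨⟨z, hzN⟩, hz⟩ := exists_prime_orderOf_dvd_card' 2
    (G := ↥(Subgroup.normalizer ((R : Subgroup G) : Set G))) (by rw [hcard]; norm_num)
  rw [Subgroup.orderOf_mk] at hz
  have hzR : z ∉ (R : Subgroup G) := fun h => by
    have := Subgroup.orderOf_dvd_natCard _ h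
    rw [hz, hR] at this
    norm_num at this
  have hzz : z * z = 1 := by rw [← pow_two, ← hz]; exact pow_orderOf_eq_one z
  have hconj : ∀ r ∈ (R : Subgroup G), z * r * z⁻¹ ∈ (R : Subgroup G) := fun r hr =>
    (Subgroup.mem_normalizer_iff.1 hzN r).1 hr
  have hcyc : IsCyclic ↥(R : Subgroup G) := isCyclic_of_prime_card hR
  -- `z` inverts `R`
  have hinv : ∀ r ∈ (R : Subgroup G), z * r * z⁻¹ = r⁻¹ := by
    intro r hr
    by_contra hne
    set s := z * r * z⁻¹ * r with hs
    have hsR : s ∈ (R : Subgroup G) := mul_mem (hconj r hr) hr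
    have hs1 : s ≠ 1 := fun h => hne (mul_eq_one_iff_eq_inv.1 h)
    have hzs : z * s * z⁻¹ = s := by
      have hc : z * r * z⁻¹ * r = r * (z * r * z⁻¹) :=
        congrArg Subtype.val ((IsCyclic.commGroup (α := ↥(R : Subgroup G))).mul_comm
          ⟨_, hconj r hr⟩ ⟨r, hr⟩)
      have hzi : z⁻¹ = z := inv_eq_of_mul_eq_one_right hzz
      rw [hs, hzi]
      rw [hzi] at hc
      calc z * (z * r * z * r) * z = z * z * r * (z * r * z) := by group
        _ = r * (z * r * z) := by rw [hzz, one_mul]
        _ = z * r * z * r := hc.symm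
    apply hzR
    rw [← hC, Subgroup.mem_centralizer_iff]
    intro t ht
    have htop : Subgroup.zpowers (⟨s, hsR⟩ : ↥(R : Subgroup G)) = ⊤ :=
      zpowers_eq_top_of_prime_card hR (fun h => hs1 (congrArg Subtype.val h))
    obtain ⟨n, hn⟩ := Subgroup.mem_zpowers_iff.1 (htop ▸ Subgroup.mem_top (⟨t, ht⟩ : ↥(R : Subgroup G)))
    have ht' : s ^ n = t := by simpa using congrArg Subtype.val hn
    rw [← ht']
    exact ((show Commute z s from (mul_inv_eq_iff_eq_mul.1 hzs)).zpow_right n).symm
  -- exactly one fixed point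
  have hfix : ∃ a : α, z • a = a := by
    by_contra hne
    push Not at hne
    have h4 := four_dvd_card_moved hG (α := α) z hzz
    rw [Nat.card_congr (Equiv.subtypeUnivEquiv hne), hα] at h4
    omega
  obtain ⟨a, ha⟩ := hfix
  have huniv : ∀ b : α, b ∈ orbit (↥(R : Subgroup G)) a := by
    intro b
    have := ((Nat.bijective_iff_injective_and_card
      (Subtype.val : ↥(orbit (↥(R : Subgroup G)) a) → α)).2
      ⟨Subtype.val_injective, by rw [card_orbit_eleven R hR hfree a, hα]⟩).2 b
    obtain ⟨⟨c, hc⟩, rfl⟩ := this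
    exact hc
  have hone : ∀ b : α, z • b = b → b = a := by
    intro b hb
    obtain ⟨⟨r, hr⟩, hrb⟩ := huniv b
    change r • a = b at hrb
    have h1 : r⁻¹ • a = r • a := by
      rw [← hinv r hr, mul_smul, mul_smul, inv_smul_eq_iff.2 ha.symm, hrb, hb]
    have h2 : r ^ 2 • a = a := by
      calc r ^ 2 • a = r • (r • a) := by rw [pow_two, mul_smul]
        _ = r • (r⁻¹ • a) := by rw [h1]
        _ = a := smul_inv_smul r a
    have hr11 : r ^ 11 = 1 := by
      have := pow_card_eq_one' (x := (⟨r, hr⟩ : ↥(R : Subgroup G)))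
      rw [hR] at this
      simpa using congrArg Subtype.val this
    have : r = (r ^ 2) ^ 6 := by rw [← pow_mul, show 2 * 6 = 11 + 1 from rfl, pow_succ, hr11, one_mul]
    rw [← hrb, this]
    have hstab : r ^ 2 ∈ stabilizer G a := h2
    exact (pow_mem hstab 6 : (r ^ 2) ^ 6 ∈ stabilizer G a)
  have h4 := four_dvd_card_moved hG (α := α) z hzz
  have : Fintype α := Fintype.ofFinite α
  rw [Nat.card_eq_fintype_card, Fintype.card_subtype_compl, Fintype.card_subtype,
    ← Nat.card_eq_fintype_card, hα, show (Finset.univ.filter fun b : α => z • b = b) = {a} by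
      ext b; simp only [Finset.mem_filter, Finset.mem_univ, true_and, Finset.mem_singleton]
      exact ⟨hone b, fun h => h ▸ ha⟩, Finset.card_singleton] at h4
  omega

end Cfsg.Agent.SylowNum
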