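import Mathlib
import Cfsg.Agent.Coprime.Action

set_option autoImplicit false
set_option linter.style.haveILetI false

/-! M. Hall's theorem on Sylow numbers. -/

open Subgroup
open scoped Pointwise

namespace Cfsg.Agent.SylowNum

universe u

section
variable {G : Type u} [Group G] [Finite G]

theorem relIndex_sup_eq (H N : Subgroup G) [N.Normal] :
    H.relIndex (H ⊔ N) = H.relIndex N := by
  have e1 : (H ⊓ N).relIndex N * N.relIndex (H ⊔ N) = (H ⊓ N).relIndex (H ⊔ N) :=
    relIndex_mul_relIndex _ _ _ inf_le_right le_sup_right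
  have e2 : (H ⊓ N).relIndex H * H.relIndex (H ⊔ N) = (H ⊓ N).relIndex (H ⊔ N) :=
    relIndex_mul_relIndex _ _ _ inf_le_left le_sup_left
  rw [relIndex_sup_right, inf_relIndex_right] at e1
  rw [inf_relIndex_left] at e2
  have hne : N.relIndex H ≠ 0 := Subgroup.index_ne_zero_of_finite
  exact Nat.eq_of_mul_eq_mul_right (Nat.pos_of_ne_zero hne) (by linarith)

theorem index_eq_sup_mul (H N : Subgroup G) [N.Normal] :
    H.index = (H ⊔ N).index * H.relIndex N := by
  rw [← relIndex_sup_eq H N, mul_comm, relIndex_mul_index le_sup_left]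

variable {p : ℕ} [hp : Fact p.Prime]

theorem card_sylow_eq_index (P : Sylow p G) :
    Nat.card (Sylow p G) = (normalizer ((P : Subgroup G) : Set G)).index :=
  Sylow.card_eq_index_normalizer P

theorem normalizer_sup_normal (P : Sylow p G) (L : Subgroup G) [L.Normal] :
    normalizer (((P : Subgroup G) ⊔ L : Subgroup G) : Set G) =
      normalizer ((P : Subgroup G) : Set G) ⊔ L := by
  apply le_antisymm
  · intro x hx
    have hle : ((x • P : Sylow p G) : Subgroup G) ≤ (P : Subgroup G) ⊔ L := by
      rintro - ⟨y, hy, rfl⟩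
      exact (mem_normalizer_iff.1 hx y).1 (mem_sup_left hy)
    obtain ⟨y, hy⟩ := MulAction.exists_smul_eq ↥((P : Subgroup G) ⊔ L)
      ((x • P).subtype hle) (P.subtype le_sup_left)
    simp_rw [Sylow.smul_subtype, smul_def, smul_smul] at hy
    have h1 : (y : G) * x ∈ normalizer ((P : Subgroup G) : Set G) :=
      Sylow.smul_eq_iff_mem_normalizer.1 (Sylow.subtype_injective hy)
    have h2 : (y : G) ∈ normalizer ((P : Subgroup G) : Set G) ⊔ L :=
      (sup_le_sup_right le_normalizer L) y.2
    have := mul_mem (inv_mem h2) (mem_sup_left h1)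
    rwa [inv_mul_cancel_left] at this
  · refine sup_le ?_ (le_sup_right.trans le_normalizer)
    refine le_trans (le_inf le_rfl (le_normalizer_of_normal (H := L))) ?_
    exact normalizer_inf_normalizer_le_normalizer_sup _ _

theorem card_sylow_quotient (P : Sylow p G) (L : Subgroup G) [L.Normal] :
    Nat.card (Sylow p (G ⧸ L)) = (normalizer ((P : Subgroup G) : Set G) ⊔ L).index := by
  rw [Sylow.card_eq_index_normalizer (P.mapSurjective (QuotientGroup.mk'_surjective L)),
    ← normalizer_sup_normal P L,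
    ← index_comap_of_surjective _ (QuotientGroup.mk'_surjective L),
    show (((P.mapSurjective (QuotientGroup.mk'_surjective L)) : Sylow p (G ⧸ L)) : Set (G ⧸ L)) =
      ((((P : Subgroup G).map (QuotientGroup.mk' L)) : Subgroup (G ⧸ L)) : Set (G ⧸ L)) from rfl,
    comap_normalizer_eq_of_surjective _ (QuotientGroup.mk'_surjective L),
    comap_map_eq, QuotientGroup.ker_mk']

/-- Sylow number of a subgroup containing a Sylow subgroup. -/
theorem card_sylow_over (P : Sylow p G) {K : Subgroup G} (hPK : (P : Subgroup G) ≤ K) :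
    Nat.card (Sylow p K) = (normalizer ((P : Subgroup G) : Set G)).relIndex K := by
  rw [Sylow.card_eq_index_normalizer (P.subtype hPK)]
  show (normalizer (((P : Subgroup G).subgroupOf K : Subgroup K) : Set K)).index = _
  rw [← subgroupOf_normalizer_eq hPK]
  rfl

theorem card_sylow_eq_mul (P : Sylow p G) (N : Subgroup G) [N.Normal] :
    Nat.card (Sylow p G) =
      Nat.card (Sylow p (G ⧸ N)) * Nat.card (Sylow p ↥((P : Subgroup G) ⊔ N)) := by
  set H := normalizer ((P : Subgroup G) : Set G) with hH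
  rw [card_sylow_eq_index P, card_sylow_quotient P N,
    card_sylow_over P le_sup_left, ← hH, index_eq_sup_mul H N]
  congr 1
  set K := (P : Subgroup G) ⊔ N with hK
  have hK' : H ⊓ K ⊔ N = K :=
    le_antisymm (sup_le inf_le_right le_sup_right)
      (sup_le ((le_inf le_normalizer le_sup_left).trans le_sup_left) le_sup_right)
  calc H.relIndex N = (H ⊓ K).relIndex N := by
        rw [← inf_relIndex_right H N, ← inf_relIndex_right (H ⊓ K) N, inf_assoc,
          inf_eq_right.2 (le_sup_right : N ≤ K)]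
    _ = (H ⊓ K).relIndex (H ⊓ K ⊔ N) := (relIndex_sup_eq _ _).symm
    _ = (H ⊓ K).relIndex K := by rw [hK']
    _ = H.relIndex K := inf_relIndex_right H K

theorem card_sylow_pGroup_normal (P : Sylow p G) (Q : Subgroup G) [Q.Normal] (hQ : IsPGroup p Q) :
    Nat.card (Sylow p G) = Nat.card (Sylow p (G ⧸ Q)) := by
  have hQP : Q ≤ (P : Subgroup G) := by
    have := P.is_maximal' (P.isPGroup'.to_sup_of_normal_right hQ) le_sup_left
    exact this ▸ le_sup_right
  rw [card_sylow_eq_index P, card_sylow_quotient P Q,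
    sup_eq_left.2 (hQP.trans le_normalizer)]

/-- The case `G = P N`. -/
theorem card_sylow_eq_mul_normalizer (P : Sylow p G) (N : Subgroup G) [N.Normal]
    (hPN : (P : Subgroup G) ⊔ N = ⊤) :
    Nat.card (Sylow p G) = Nat.card (Sylow p N) *
      Nat.card (Sylow p ↥(normalizer (((P : Subgroup G) ⊓ N : Subgroup G) : Set G))) := by
  set H := normalizer ((P : Subgroup G) : Set G) with hH
  set M := normalizer (((P : Subgroup G) ⊓ N : Subgroup G) : Set G) with hM
  have hHM : H ≤ M := (le_inf le_rfl le_normalizer_of_normal).trans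
    inf_normalizer_le_normalizer_inf
  have hPM : (P : Subgroup G) ≤ M := le_normalizer.trans hHM
  have hMN : M ⊔ N = ⊤ := top_le_iff.1 (hPN ▸ sup_le_sup_right hPM N)
  have hidx : ¬ p ∣ (P : Subgroup G).relIndex N := by
    intro h
    refine P.not_dvd_index ?_
    rw [index_eq_sup_mul (P : Subgroup G) N]
    exact h.mul_left _
  have hpg : IsPGroup p ((P : Subgroup G).subgroupOf N) :=
    P.isPGroup'.comap_of_injective N.subtype N.subtype_injective
  let Q : Sylow p N := hpg.toSylow hidx
  have hN : Nat.card (Sylow p N) = M.relIndex N := by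
    rw [Sylow.card_eq_index_normalizer Q]
    show (normalizer (((P : Subgroup G).subgroupOf N : Subgroup N) : Set N)).index = _
    rw [← inf_subgroupOf_right (P : Subgroup G) N, ← subgroupOf_normalizer_eq inf_le_right]
    rfl
  rw [hN, card_sylow_over P hPM, card_sylow_eq_index P, ← hH, mul_comm,
    ← relIndex_mul_index hHM, index_eq_sup_mul M N, hMN, index_top, one_mul]

/-- The Sylow number when a normal `p'`-subgroup and `P` generate. -/
theorem card_sylow_coprime_case (P : Sylow p G) (N : Subgroup G) [N.Normal]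
    (hPN : (P : Subgroup G) ⊔ N = ⊤) (hN : ¬ p ∣ Nat.card N) (q : ℕ) (hq : q.Prime)
    (hqd : q ∣ Nat.card (Sylow p G)) :
    (q ^ (Nat.card (Sylow p G)).factorization q) % p = 1 := by
  haveI := Fact.mk hq
  obtain ⟨k, hk⟩ := IsPGroup.iff_card.1 P.isPGroup'
  have hcop : (Nat.card (P : Subgroup G)).Coprime (Nat.card N) := by
    rw [hk]; exact (hp.out.coprime_iff_not_dvd.2 hN).pow_left k
  set C := N ⊓ centralizer ((P : Subgroup G) : Set G) with hC
  have hHN : normalizer ((P : Subgroup G) : Set G) ⊓ N = C := by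
    apply le_antisymm
    · rintro x ⟨hx, hxN⟩
      refine ⟨hxN, fun a ha => ?_⟩
      have h1 : x * a * x⁻¹ * a⁻¹ ∈ (P : Subgroup G) :=
        mul_mem ((mem_normalizer_iff.1 hx a).1 ha) (inv_mem ha)
      have h2 : x * a * x⁻¹ * a⁻¹ ∈ N := by
        have : a * x⁻¹ * a⁻¹ ∈ N := Normal.conj_mem inferInstance _ (inv_mem hxN) a
        have := mul_mem hxN this
        simpa [mul_assoc] using this
      have h3 := inf_eq_bot_of_coprime hcop
      have h4 : x * a * x⁻¹ * a⁻¹ ∈ (⊥ : Subgroup G) := h3 ▸ ⟨h1, h2⟩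
      rw [mem_bot, mul_inv_eq_one, mul_inv_eq_iff_eq_mul] at h4
      exact h4.symm
    · exact fun x hx => ⟨centralizer_le_normalizer _ hx.2, hx.1⟩
  have hn : Nat.card (Sylow p G) * Nat.card C = Nat.card N := by
    have hJ : normalizer ((P : Subgroup G) : Set G) ⊔ N = ⊤ :=
      top_le_iff.1 (hPN ▸ sup_le_sup_right le_normalizer N)
    rw [card_sylow_eq_index P, index_eq_sup_mul _ N, hJ, index_top, one_mul,
      ← inf_relIndex_right, hHN]
    have := card_mul_index (C.subgroupOf N)
    rw [Nat.card_congr (subgroupOfEquivOfLe (inf_le_left : C ≤ N)).toEquiv] at this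
    rw [← this, mul_comm]; rfl
  -- a Sylow subgroup of `C` inside an invariant Sylow subgroup of `N`
  let U₀ : Sylow q C := default
  set U := (U₀ : Subgroup C).map C.subtype with hU
  have hUC : U ≤ C := map_subtype_le _
  have hPU : (P : Subgroup G) ≤ normalizer (U : Set G) :=
    (le_centralizer_iff.1 (hUC.trans inf_le_right)).trans (centralizer_le_normalizer _)
  obtain ⟨R₀, hUR, hRP⟩ := Cfsg.Agent.Coprime.exists_invariant_sylow_ge (p := q)
    (A := (P : Subgroup G)) (K := N) (U := U) le_normalizer_of_normal hcop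
    (Or.inl (by haveI := P.isPGroup'.isNilpotent; infer_instance))
    (hUC.trans inf_le_left) hPU (U₀.isPGroup'.map _)
  set R := (R₀ : Subgroup N).map N.subtype with hR
  have hRN : R ≤ N := map_subtype_le _
  set F := R ⊓ centralizer ((P : Subgroup G) : Set G) with hF
  have hFU : F = U := by
    have hFC : F ≤ C := fun x hx => ⟨hRN hx.1, hx.2⟩
    have hUF : U ≤ F := le_inf hUR (hUC.trans inf_le_right)
    have hFp : IsPGroup q (F.subgroupOf C) :=
      ((R₀.isPGroup'.map N.subtype).to_le inf_le_left).of_equiv (subgroupOfEquivOfLe hFC).symm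
    have := U₀.is_maximal' hFp (fun x hx => hUF ⟨x, hx, rfl⟩)
    rw [hU, ← this, map_subgroupOf_eq_of_le hFC]
  have hcard : Nat.card R = q ^ (Nat.card N).factorization q :=
    Cfsg.Agent.Coprime.card_sylow_map R₀
  have hcardF : Nat.card F = q ^ (Nat.card C).factorization q := by
    rw [hFU]; exact Cfsg.Agent.Coprime.card_sylow_map U₀
  -- congruence mod p from the action of `P` on `R`
  letI act : MulAction (P : Subgroup G) R :=
    { smul := fun a r => ⟨(a : G) * r * (a : G)⁻¹, (mem_normalizer_iff.1 (hRP a.2) r).1 r.2⟩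
      one_smul := fun r => Subtype.ext (show (1 : G) * r * (1 : G)⁻¹ = r by simp)
      mul_smul := fun a b r => Subtype.ext
        (show ((a : G) * b) * r * ((a : G) * b)⁻¹ = a * (b * r * (b : G)⁻¹) * (a : G)⁻¹ by group) }
  have hmod := P.isPGroup'.card_modEq_card_fixedPoints R
  have hfix : Nat.card (MulAction.fixedPoints (P : Subgroup G) R) = Nat.card F := by
    refine Nat.card_congr
      { toFun := fun r => ⟨(r.1 : G), r.1.2, fun a ha => ?_⟩
        invFun := fun f => ⟨⟨f.1, f.2.1⟩, fun a => Subtype.ext ?_⟩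
        left_inv := fun r => rfl
        right_inv := fun f => rfl }
    · have h1 := congrArg Subtype.val (r.2 ⟨a, ha⟩)
      exact mul_inv_eq_iff_eq_mul.1 h1
    · show (a : G) * f.1 * (a : G)⁻¹ = f.1
      exact mul_inv_eq_iff_eq_mul.2 (f.2.2 _ a.2)
  rw [hfix, hcard, hcardF] at hmod
  set n := Nat.card (Sylow p G)
  have hn0 : n ≠ 0 := Nat.card_pos.ne'
  have hfac : (Nat.card N).factorization q = n.factorization q + (Nat.card C).factorization q := by
    rw [← hn, Nat.factorization_mul hn0 Nat.card_pos.ne']; rfl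
  rw [hfac, pow_add] at hmod
  have hqp : q ≠ p := by
    rintro rfl
    exact hN (hqd.trans (Dvd.intro _ hn))
  have hco : Nat.gcd p (q ^ (Nat.card C).factorization q) = 1 :=
    ((Nat.coprime_primes hp.out hq).2 (Ne.symm hqp)).pow_right _
  have h1 : q ^ n.factorization q * q ^ (Nat.card C).factorization q ≡
      1 * q ^ (Nat.card C).factorization q [MOD p] := by rw [one_mul]; exact hmod
  have h2 := Nat.ModEq.cancel_right_of_coprime hco h1
  rw [h2, Nat.mod_eq_of_lt hp.out.one_lt]

end

/-- The conclusion of Hall's theorem. -/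
def Good (p : ℕ) (m : ℕ) : Prop :=
  ∃ l : List ℕ, l.prod = m ∧ ∀ m' ∈ l, (IsPrimePow m' ∧ m' % p = 1) ∨
    ∃ (S : Type u) (_ : Group S) (_ : Finite S), IsSimpleGroup S ∧ m' = Nat.card (Sylow p S)

theorem good_one (p : ℕ) : Good.{u} p 1 := ⟨[], rfl, by simp⟩

theorem good_mul {p a b : ℕ} (ha : Good.{u} p a) (hb : Good.{u} p b) : Good.{u} p (a * b) := by
  obtain ⟨l, rfl, hl⟩ := ha
  obtain ⟨r, rfl, hr⟩ := hb
  exact ⟨l ++ r, List.prod_append, fun m hm => (List.mem_append.1 hm).elim (hl m) (hr m)⟩

theorem hall_theorem (p : ℕ) [hp : Fact p.Prime] : ∀ (n : ℕ) (G : Type u) [Group G] [Finite G],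
    Nat.card G = n → Good.{u} p (Nat.card (Sylow p G)) := by
  intro n
  induction n using Nat.strong_induction_on with
  | _ n ih =>
    intro G _ _ hn
    subst hn
    obtain ⟨P⟩ : Nonempty (Sylow p G) := inferInstance
    by_cases hG : Nontrivial G
    swap
    · haveI := not_nontrivial_iff_subsingleton.1 hG
      have : Subsingleton (Sylow p G) := ⟨fun a b => Sylow.ext (Subsingleton.elim _ _)⟩
      rw [Nat.card_of_subsingleton P]; exact good_one p
    by_cases hs : IsSimpleGroup G
    · exact ⟨[Nat.card (Sylow p G)], by simp, fun m hm => Or.inr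
        ⟨G, inferInstance, inferInstance, hs, by simpa using hm⟩⟩
    have hquot : ∀ (N : Subgroup G) [N.Normal], N ≠ ⊥ →
        Good.{u} p (Nat.card (Sylow p (G ⧸ N))) := by
      intro N _ hN
      refine ih _ ?_ (G ⧸ N) rfl
      rw [card_eq_card_quotient_mul_card_subgroup N]
      exact lt_mul_of_one_lt_right Nat.card_pos (N.one_lt_card_iff_ne_bot.2 hN)
    have hsub : ∀ K : Subgroup G, K ≠ ⊤ → Good.{u} p (Nat.card (Sylow p K)) := by
      intro K hK
      refine ih _ ?_ K rfl
      exact lt_of_le_of_ne K.card_le_card_group fun h => hK (eq_top_of_card_eq K h)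
    by_cases hO : ∃ Q : Subgroup G, Q.Normal ∧ Q ≠ ⊥ ∧ IsPGroup p Q
    · obtain ⟨Q, hQn, hQ1, hQp⟩ := hO
      haveI := hQn
      rw [card_sylow_pGroup_normal P Q hQp]; exact hquot Q hQ1
    obtain ⟨N, hNn, hN1, hN2⟩ : ∃ N : Subgroup G, N.Normal ∧ N ≠ ⊥ ∧ N ≠ ⊤ := by
      by_contra hcon
      exact hs ⟨fun N hN => or_iff_not_imp_left.2 fun h => by
        by_contra h'; exact hcon ⟨N, hN, h, h'⟩⟩
    haveI := hNn
    rw [card_sylow_eq_mul P N]
    refine good_mul (hquot N hN1) ?_
    by_cases hPN : (P : Subgroup G) ⊔ N = ⊤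
    swap
    · exact hsub _ hPN
    rw [hPN, Nat.card_congr (Equiv.refl _),
      show Nat.card (Sylow p (⊤ : Subgroup G)) = Nat.card (Sylow p G) from ?_]
    swap
    · rw [card_sylow_over P le_top, relIndex_top_right, card_sylow_eq_index P]
    set Q := (P : Subgroup G) ⊓ N with hQ
    by_cases hQn : normalizer (Q : Set G) = ⊤
    swap
    · rw [card_sylow_eq_mul_normalizer P N hPN]
      exact good_mul (hsub N hN2) (hsub _ hQn)
    have hQbot : Q = ⊥ := by
      by_contra hne
      exact hO ⟨Q, normalizer_eq_top_iff.1 hQn, hne, P.isPGroup'.to_le inf_le_left⟩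
    have hNp : ¬ p ∣ Nat.card N := by
      intro hd
      refine P.not_dvd_index ?_
      rw [index_eq_sup_mul (P : Subgroup G) N, ← inf_relIndex_right, ← hQ, hQbot,
        relIndex_bot_left]
      exact hd.mul_left _
    set m := Nat.card (Sylow p G) with hm
    have hm0 : m ≠ 0 := Nat.card_pos.ne'
    refine ⟨m.primeFactors.toList.map (fun q => q ^ m.factorization q), ?_, ?_⟩
    · rw [Finset.prod_map_toList]
      exact Nat.prod_factorization_pow_eq_self hm0
    · intro m' hm'
      obtain ⟨q, hq, rfl⟩ := List.mem_map.1 hm'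
      rw [Finset.mem_toList, Nat.mem_primeFactors] at hq
      refine Or.inl ⟨?_, card_sylow_coprime_case P N hPN hNp q hq.1 hq.2.1⟩
      exact hq.1.isPrimePow.pow
        (hq.1.factorization_pos_of_dvd hm0 hq.2.1).ne'

end Cfsg.Agent.SylowNum
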