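import Mathlib

/-!
# Subgroups of the symmetric group of degree seven of order prime to three
-/

namespace Cfsg.Agent.SylowNum

open MulAction

variable {α : Type*} [Fintype α] [DecidableEq α]

/-- A subgroup of order divisible by 16 and 7 of a symmetric group of degree seven is the whole
group. -/
theorem eq_top_of_sixteen_seven (hα : Fintype.card α = 7) (I : Subgroup (Equiv.Perm α))
    (h7 : 7 ∣ Nat.card I) (h16 : 16 ∣ Nat.card I) : I = ⊤ := by
  classical
  have hf2 : Fact (Nat.Prime 2) := ⟨Nat.prime_two⟩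
  have hcardP : Nat.card (Equiv.Perm α) = 5040 := by
    rw [Nat.card_eq_fintype_card, Fintype.card_perm, hα]; rfl
  obtain ⟨a, b, hab⟩ : ∃ a b : α, a ≠ b := Fintype.exists_pair_of_one_lt_card (by omega)
  have hsw : (Equiv.swap a b).IsSwap := ⟨a, b, hab, rfl⟩
  obtain ⟨k, hk, hkdvd⟩ : ∃ k, k = 16 ∧ k ∣ Nat.card I := ⟨16, rfl, h16⟩
  obtain ⟨T⟩ : Nonempty (Sylow 2 I) := inferInstance
  obtain ⟨S₁, hS₁⟩ := IsPGroup.exists_le_sylow (T.isPGroup'.map I.subtype)
  have hf : (Nat.card (Equiv.Perm α)).factorization 2 = 4 := by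
    rw [hcardP]
    have e : (5040 : ℕ) = 2 ^ 4 * 315 := by norm_num
    rw [e, Nat.factorization_mul (by norm_num) (by norm_num), Finsupp.add_apply,
      Nat.factorization_pow, Finsupp.smul_apply, Nat.Prime.factorization_self Nat.prime_two,
      Nat.factorization_eq_zero_of_not_dvd (by norm_num)]
    rfl
  have hS₁I : (S₁ : Subgroup (Equiv.Perm α)) ≤ I := by
    have h1 : (S₁ : Subgroup (Equiv.Perm α)) = (T : Subgroup I).map I.subtype := by
      refine (Subgroup.eq_of_le_of_card_ge hS₁ ?_).symm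
      rw [Subgroup.card_map_of_injective I.subtype_injective, T.card_eq_multiplicity,
        S₁.card_eq_multiplicity, hf]
      exact Nat.pow_le_pow_right (by norm_num)
        ((Nat.prime_two.pow_dvd_iff_le_factorization Nat.card_pos.ne').1
          (by simpa using h16))
    rw [h1]
    exact Subgroup.map_subtype_le _
  obtain ⟨S₂, hS₂⟩ := IsPGroup.exists_le_sylow (p := 2)
    (IsPGroup.of_card (n := 1) (by
      rw [Nat.card_zpowers, pow_one]
      exact orderOf_eq_prime (by rw [pow_two, Equiv.swap_mul_self]) (by simpa using hab)) :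
      IsPGroup 2 (Subgroup.zpowers (Equiv.swap a b)))
  obtain ⟨g, hg⟩ := MulAction.exists_smul_eq (Equiv.Perm α) S₂ S₁
  have hmem : g * Equiv.swap a b * g⁻¹ ∈ I := by
    apply hS₁I
    rw [← hg, Sylow.coe_subgroup_smul]
    exact Subgroup.smul_mem_pointwise_smul _ (MulAut.conj g) _ (hS₂ (Subgroup.mem_zpowers _))
  refine Equiv.Perm.subgroup_eq_top_of_swap_mem (by rw [hα]; norm_num)
    (by rw [hα, ← Nat.card_eq_fintype_card]; exact h7) hmem ?_
  exact ⟨g a, g b, g.injective.ne hab, by rw [Equiv.swap_apply_apply]⟩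

/-- A permutation of seven points commuting with an element of order seven is killed by seven. -/
theorem pow_seven_eq_one (hα : Fintype.card α = 7) {σ f : Equiv.Perm α} (hσ : orderOf σ = 7)
    (hc : f * σ = σ * f) : f ^ 7 = 1 := by
  classical
  have hne : ∀ a, σ a ≠ a := by
    have hcyc : σ.IsCycle := Equiv.Perm.isCycle_of_prime_order'' (by rw [hα]; norm_num)
      (by rw [hσ, hα])
    have hsup : σ.support.card = 7 := by rw [← hcyc.orderOf, hσ]
    intro a
    have : σ.support = Finset.univ := Finset.eq_univ_of_card _ (by rw [hsup, hα])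
    exact Equiv.Perm.mem_support.1 (this ▸ Finset.mem_univ a)
  have hcyc : σ.IsCycle := Equiv.Perm.isCycle_of_prime_order'' (by rw [hα]; norm_num)
    (by rw [hσ, hα])
  obtain ⟨a⟩ : Nonempty α := Fintype.card_pos_iff.1 (by omega)
  obtain ⟨i, hi⟩ := hcyc.exists_zpow_eq (hne a) (hne (f a))
  have hf : f = σ ^ i := by
    refine Equiv.ext fun b => ?_
    obtain ⟨j, rfl⟩ := hcyc.exists_zpow_eq (hne a) (hne b)
    have hcj : f * σ ^ j = σ ^ j * f := (show Commute f σ from hc).zpow_right j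
    calc f ((σ ^ j) a) = (σ ^ j) (f a) := by
          rw [← Equiv.Perm.mul_apply, hcj, Equiv.Perm.mul_apply]
      _ = (σ ^ j) ((σ ^ i) a) := by rw [hi]
      _ = (σ ^ i) ((σ ^ j) a) := by
          rw [← Equiv.Perm.mul_apply, ← Equiv.Perm.mul_apply, ← zpow_add, ← zpow_add, add_comm]
  rw [hf, ← zpow_natCast, ← zpow_mul, mul_comm, zpow_mul, zpow_natCast, ← hσ, pow_orderOf_eq_one,
    one_zpow]

theorem seven_lemma : ∀ x : ZMod 7, 1 = x ^ 5 → x = 1 := by decide

/-- No subgroup of order 35 or 280 in a symmetric group of degree seven. -/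
theorem card_ne_of_five_seven (hα : Fintype.card α = 7) (I : Subgroup (Equiv.Perm α)) :
    Nat.card I ≠ 35 ∧ Nat.card I ≠ 280 := by
  classical
  suffices h : ∀ m, (m = 5 ∨ m = 40) → Nat.card I ≠ 7 * m from ⟨h 5 (Or.inl rfl), h 40 (Or.inr rfl)⟩
  intro m hm hI
  have hf7 : Fact (Nat.Prime 7) := ⟨by norm_num⟩
  have hf5 : Fact (Nat.Prime 5) := ⟨by norm_num⟩
  obtain ⟨T⟩ : Nonempty (Sylow 7 I) := inferInstance
  have hmod := card_sylow_modEq_one 7 I
  have hTcard : Nat.card T = 7 := by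
    rw [T.card_eq_multiplicity, hI, Nat.factorization_mul (by norm_num) (by omega), Finsupp.add_apply,
      Nat.Prime.factorization_self (by norm_num), Nat.factorization_eq_zero_of_not_dvd (by omega)]
    rfl
  have hidx : (T : Subgroup I).index = m := by
    have := (T : Subgroup I).card_mul_index
    rw [hTcard, hI] at this
    omega
  have hn5 : 5 ∣ Nat.card ↥(Subgroup.normalizer ((T : Subgroup I) : Set I)) := by
    have h1 : Nat.card (Sylow 7 I) ∣ m := hidx ▸ T.card_dvd_index
    have h2 : Nat.card (Sylow 7 I) = (Subgroup.normalizer ((T : Subgroup I) : Set I)).index :=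
      T.card_eq_index_normalizer
    have h3 := (Subgroup.normalizer ((T : Subgroup I) : Set I)).card_mul_index
    rw [hI, ← h2] at h3
    have h4 : Nat.card (Sylow 7 I) ∈ Nat.divisors m := Nat.mem_divisors.2 ⟨h1, by omega⟩
    unfold Nat.ModEq at hmod
    rcases hm with rfl | rfl
    · rw [show Nat.divisors 5 = {1, 5} by decide] at h4
      simp only [Finset.mem_insert, Finset.mem_singleton] at h4
      rcases h4 with h4 | h4 <;> rw [h4] at hmod h3 <;> omega
    · rw [show Nat.divisors 40 = {1, 2, 4, 5, 8, 10, 20, 40} by decide] at h4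
      simp only [Finset.mem_insert, Finset.mem_singleton] at h4
      rcases h4 with h4 | h4 | h4 | h4 | h4 | h4 | h4 | h4 <;> rw [h4] at hmod h3 <;> omega
  obtain ⟨⟨f, hfN⟩, hf⟩ := exists_prime_orderOf_dvd_card' 5 hn5
  rw [Subgroup.orderOf_mk] at hf
  obtain ⟨σ, hσ⟩ := exists_prime_orderOf_dvd_card' 7 (G := ↥(T : Subgroup I)) (by rw [hTcard])
  have htop : Subgroup.zpowers σ = ⊤ := Subgroup.eq_top_of_card_eq _
    (by rw [Nat.card_zpowers, hσ, hTcard])
  obtain ⟨j, hj⟩ := Subgroup.mem_zpowers_iff.1 (htop ▸ Subgroup.mem_top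
    (⟨f * σ * f⁻¹, (Subgroup.mem_normalizer_iff.1 hfN _).1 σ.2⟩ : ↥(T : Subgroup I)))
  set s : Equiv.Perm α := ((σ : I) : Equiv.Perm α) with hs
  set g : Equiv.Perm α := (f : Equiv.Perm α) with hg
  have hso : orderOf s = 7 := by rw [hs, Subgroup.orderOf_coe, Subgroup.orderOf_coe, hσ]
  have hgo : orderOf g = 5 := by rw [hg, Subgroup.orderOf_coe, hf]
  have hj' : g * s * g⁻¹ = s ^ j := by
    have := congrArg (fun x : ↥(T : Subgroup I) => ((x : I) : Equiv.Perm α)) hj
    simpa [hs, hg] using this.symm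
  have hiter : ∀ n : ℕ, g ^ n * s * (g ^ n)⁻¹ = s ^ (j ^ n) := by
    intro n
    induction n with
    | zero => simp
    | succ n ih =>
      calc g ^ (n + 1) * s * (g ^ (n + 1))⁻¹ = g * (g ^ n * s * (g ^ n)⁻¹) * g⁻¹ := by
            rw [pow_succ']; group
        _ = (g * s * g⁻¹) ^ (j ^ n) := by rw [ih, conj_zpow]
        _ = s ^ (j ^ (n + 1)) := by rw [hj', ← zpow_mul, pow_succ, mul_comm]
  have h5 := hiter 5
  rw [show g ^ 5 = 1 by rw [← hgo]; exact pow_orderOf_eq_one g, one_mul, inv_one, mul_one] at h5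
  have hcast : ((1 : ℤ) : ZMod 7) = ((j ^ 5 : ℤ) : ZMod 7) := by
    rw [ZMod.intCast_eq_intCast_iff, show ((7 : ℕ) : ℤ) = (orderOf s : ℤ) by rw [hso],
      ← zpow_eq_zpow_iff_modEq, zpow_one]
    exact h5
  have hj1 : ((j : ℤ) : ZMod 7) = ((1 : ℤ) : ZMod 7) := by
    push_cast at hcast ⊢
    exact seven_lemma _ hcast
  rw [ZMod.intCast_eq_intCast_iff, show ((7 : ℕ) : ℤ) = (orderOf s : ℤ) by rw [hso],
    ← zpow_eq_zpow_iff_modEq, zpow_one, ← hj', mul_inv_eq_iff_eq_mul] at hj1
  have := pow_seven_eq_one hα hso hj1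
  have h' := orderOf_dvd_of_pow_eq_one this
  rw [hgo] at h'
  norm_num at h'

end Cfsg.Agent.SylowNum
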