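import Cfsg.Agent.SylowNum.Eleven
import Cfsg.Agent.SylowNum.PermSeven

/-!
# No simple group with 22 Sylow 3-subgroups of order 3
-/

namespace Cfsg.Agent.SylowNum

open MulAction

variable {G : Type*} [Group G] [Finite G]

theorem faithfulSMul_of_moves [IsSimpleGroup G] {α : Type*} [MulAction G α] {g : G} {a : α}
    (h : g • a ≠ a) : FaithfulSMul G α := by
  rcases Cfsg.Agent.SmallGroups.injective_or_trivial (MulAction.toPermHom G α) with hi | ht
  · exact ⟨fun {g₁ g₂} hh => hi (Equiv.ext hh)⟩
  · exact absurd (congrFun (congrArg (⇑) (ht g)) a) h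

theorem not_mem_orbit_sylow {p : ℕ} [Fact p.Prime] (P Q : Sylow p G) (hQ : Q ≠ P) :
    P ∉ orbit (↥(P : Subgroup G)) Q := by
  rintro ⟨⟨u, hu⟩, hu'⟩
  change u • Q = P at hu'
  apply hQ
  rw [← inv_smul_smul u Q, hu', Sylow.smul_eq_iff_mem_normalizer]
  exact Subgroup.le_normalizer (inv_mem hu)

section

variable [IsSimpleGroup G]

/-- An element normalising `A` and fixing two further Sylow 11-subgroups is trivial. -/
theorem eq_one_of_three_fixed (A B D : Sylow 11 G) [Fact (Nat.Prime 11)]
    (hcard : Nat.card (Sylow 11 G) = 12) (hA : ∀ R : Sylow 11 G, Nat.card R = 11)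
    (hC : ∀ R : Sylow 11 G, Subgroup.centralizer ((R : Subgroup G) : Set G) = (R : Subgroup G))
    {z : G} (hzA : z • A = A) (hzB : z • B = B) (hzD : z • D = D) (hAB : A ≠ B) (hAD : A ≠ D)
    (hBD : B ≠ D) : z = 1 := by
  classical
  have hinf : ∀ u ∈ (A : Subgroup G), u • B = B → u = 1 := by
    intro u hu hub
    by_contra hu1
    have hmem : (⟨u, hu⟩ : ↥(A : Subgroup G)) ∈ stabilizer (↥(A : Subgroup G)) B := hub
    rw [stabilizer_sylow_eq, Subgroup.mem_subgroupOf] at hmem
    have htop : Subgroup.zpowers (⟨u, hu⟩ : ↥(A : Subgroup G)) = ⊤ :=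
      zpowers_eq_top_of_prime_card (hA A) (fun h => hu1 (congrArg Subtype.val h))
    apply hAB
    refine Sylow.ext (A.is_maximal' B.isPGroup' ?_).symm
    intro y hy
    obtain ⟨n, hn⟩ := Subgroup.mem_zpowers_iff.1 (htop ▸ Subgroup.mem_top (⟨y, hy⟩ : ↥(A : Subgroup G)))
    have : u ^ n = y := by simpa using congrArg Subtype.val hn
    rw [← this]
    exact Subgroup.zpow_mem _ hmem n
  -- `A` moves `B` to `D`
  obtain ⟨r, hr, hrB⟩ : ∃ r ∈ (A : Subgroup G), r • B = D := by
    have hinj : Function.Injective (fun u : ↥(A : Subgroup G) => (⟨(u : G) • B, fun h => by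
        apply hAB
        rw [← inv_smul_smul (u : G) B, h, eq_comm, Sylow.smul_eq_iff_mem_normalizer]
        exact Subgroup.le_normalizer (inv_mem u.2)⟩ : {X : Sylow 11 G // X ≠ A})) := by
      intro u v huv
      have h' : (u : G) • B = (v : G) • B := congrArg Subtype.val huv
      have := hinf ((v : G)⁻¹ * u) (mul_mem (inv_mem v.2) u.2) (by rw [mul_smul, h', inv_smul_smul])
      exact Subtype.ext (inv_mul_eq_one.1 this).symm
    have hbij := (Nat.bijective_iff_injective_and_card _).2 ⟨hinj, by
      have : Fintype (Sylow 11 G) := Fintype.ofFinite _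
      rw [hA, Nat.card_eq_fintype_card, Fintype.card_subtype_compl, Fintype.card_subtype_eq,
        ← Nat.card_eq_fintype_card, hcard]⟩
    obtain ⟨⟨u, hu⟩, hu'⟩ := hbij.2 ⟨D, Ne.symm hAD⟩
    exact ⟨u, hu, congrArg Subtype.val hu'⟩
  have hzn : z ∈ Subgroup.normalizer ((A : Subgroup G) : Set G) :=
    Sylow.smul_eq_iff_mem_normalizer.1 hzA
  have hzr : z * r * z⁻¹ ∈ (A : Subgroup G) := (Subgroup.mem_normalizer_iff.1 hzn r).1 hr
  have h1 : (r⁻¹ * (z * r * z⁻¹)) • B = B := by
    rw [mul_smul, mul_smul, mul_smul, inv_smul_eq_iff.2 hzB.symm, hrB, hzD, ← hrB, inv_smul_smul]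
  have h2 : z * r = r * z := by
    have := inv_mul_eq_one.1 (hinf _ (mul_mem (inv_mem hr) hzr) h1)
    calc z * r = (z * r * z⁻¹) * z := by group
      _ = r * z := by rw [← this]
  have hr1 : r ≠ 1 := fun h => hBD (by rw [← hrB, h, one_smul])
  have htop : Subgroup.zpowers (⟨r, hr⟩ : ↥(A : Subgroup G)) = ⊤ :=
    zpowers_eq_top_of_prime_card (hA A) (fun h => hr1 (congrArg Subtype.val h))
  have hzC : z ∈ Subgroup.centralizer ((A : Subgroup G) : Set G) := by
    refine Subgroup.mem_centralizer_iff.2 fun y hy => ?_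
    obtain ⟨n, hn⟩ := Subgroup.mem_zpowers_iff.1 (htop ▸ Subgroup.mem_top (⟨y, hy⟩ : ↥(A : Subgroup G)))
    have : r ^ n = y := by simpa using congrArg Subtype.val hn
    rw [← this]
    exact ((show Commute z r from h2).zpow_right n).symm
  rw [hC A] at hzC
  exact hinf z hzC hzB

theorem no_order_three (hG : ¬ IsMulCommutative G) [Fact (Nat.Prime 3)]
    (hn : Nat.card (Sylow 3 G) = 22) (P : Sylow 3 G) (hP : Nat.card P = 3) : False := by
  classical
  have hf11 : Fact (Nat.Prime 11) := ⟨by norm_num⟩
  have : Fintype (Sylow 3 G) := Fintype.ofFinite _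
  have horb : ∀ Q : Sylow 3 G, Q ≠ P → Nat.card (orbit (↥(P : Subgroup G)) Q) = 3 := by
    intro Q hQ
    rw [card_orbit_sylow]
    obtain ⟨k, hk, hk'⟩ := relIndex_sylow_eq_pow P Q (Ne.symm hQ)
    have := Subgroup.index_dvd_card ((Q : Subgroup G).subgroupOf P)
    rw [show ((Q : Subgroup G).subgroupOf P).index = 3 ^ k from hk', hP] at this
    have h3 : k ≤ 1 := (Nat.pow_dvd_pow_iff_le_right (x := 3) (by norm_num)).1 (by simpa using this)
    rw [hk', show k = 1 by omega, pow_one]
  set N := Subgroup.normalizer ((P : Subgroup G) : Set G) with hN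
  set C := Subgroup.centralizer ((P : Subgroup G) : Set G) with hC
  have hidxN : N.index = 22 := by rw [← hn, P.card_eq_index_normalizer]; rfl
  have hPC : (P : Subgroup G) ≤ C := by
    intro x hx
    refine Subgroup.mem_centralizer_iff.2 fun y hy => ?_
    have := isCyclic_of_prime_card hP
    exact congrArg Subtype.val ((IsCyclic.commGroup (α := ↥(P : Subgroup G))).mul_comm ⟨y, hy⟩ ⟨x, hx⟩)
  have hCN : C ≤ N := Subgroup.centralizer_le_normalizer _
  have he3 : C.relIndex N = 2 := by
    obtain ⟨h1, h2⟩ := Cfsg.Agent.SmallGroups.relIndex_centralizer_prime hG P hP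
    exact ((Nat.dvd_prime Nat.prime_two).1 h1).resolve_left h2
  set c := (P : Subgroup G).relIndex C with hc
  have hCcard : Nat.card C = 3 * c := by
    have := ((P : Subgroup G).subgroupOf C).card_mul_index
    rw [Nat.card_congr (Subgroup.subgroupOfEquivOfLe hPC).toEquiv, hP] at this
    exact this.symm
  have hNcard : Nat.card N = 6 * c := by
    have := (C.subgroupOf N).card_mul_index
    rw [Nat.card_congr (Subgroup.subgroupOfEquivOfLe hCN).toEquiv, hCcard,
      show (C.subgroupOf N).index = 2 from he3] at this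
    omega
  have hGcard : Nat.card G = 132 * c := by
    have := N.card_mul_index
    rw [hidxN, hNcard] at this
    omega
  have h3c : ¬ 3 ∣ c := fun h => P.not_dvd_index (h.trans (Subgroup.relIndex_dvd_index_of_le hPC))
  obtain ⟨Q₀, hQ₀⟩ : ∃ Q₀, Q₀ ≠ P := by
    have : 1 < Fintype.card (Sylow 3 G) := by rw [← Nat.card_eq_fintype_card, hn]; norm_num
    exact Fintype.exists_ne_of_one_lt_card this P
  have hfaith : FaithfulSMul G (Sylow 3 G) := by
    obtain ⟨g, hg⟩ := MulAction.exists_smul_eq G P Q₀
    exact faithfulSMul_of_moves (g := g) (a := P) (by rw [hg]; exact hQ₀)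
  -- the seven orbits
  let O := Quotient (orbitRel (↥(P : Subgroup G)) (Sylow 3 G))
  let q : Sylow 3 G → O := Quotient.mk''
  have hq : ∀ A B : Sylow 3 G, q A = q B ↔ A ∈ orbit (↥(P : Subgroup G)) B := fun A B =>
    Quotient.eq''.trans orbitRel_apply
  let S := {o : O // o ≠ q P}
  have hneq : ∀ Q : Sylow 3 G, Q ≠ P → q Q ≠ q P := fun Q hQ h =>
    not_mem_orbit_sylow P Q hQ ((hq P Q).1 h.symm)
  have hrep : ∀ o : S, ∃ Q : Sylow 3 G, Q ≠ P ∧ q Q = o.1 := by
    rintro ⟨o, ho⟩
    induction o using Quotient.inductionOn' with | _ Q => ?_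
    exact ⟨Q, fun h => ho (by rw [h]), rfl⟩
  have hSfin : Fintype S := Fintype.ofFinite S
  have hS7 : Fintype.card S = 7 := by
    let f : {Q : Sylow 3 G // Q ≠ P} → S := fun Q => ⟨q Q.1, hneq Q.1 Q.2⟩
    have hfib : ∀ o : S, Nat.card {Q // f Q = o} = 3 := by
      intro o
      obtain ⟨Q, hQ, hQo⟩ := hrep o
      refine (Nat.card_congr ?_).trans (horb Q hQ)
      exact {
        toFun := fun X => ⟨X.1.1, (hq _ _).1 ((congrArg Subtype.val X.2).trans hQo.symm)⟩
        invFun := fun X => ⟨⟨X.1, fun h => not_mem_orbit_sylow P Q hQ (by have hX := X.2; rwa [h] at hX)⟩,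
          Subtype.ext (((hq _ _).2 X.2).trans hQo)⟩
        left_inv := fun X => rfl
        right_inv := fun X => rfl }
    have h1 := Nat.card_congr (Equiv.sigmaFiberEquiv f)
    have h21 : Nat.card {Q : Sylow 3 G // Q ≠ P} = 21 := by
      rw [Nat.card_eq_fintype_card, Fintype.card_subtype_compl, Fintype.card_subtype_eq,
        ← Nat.card_eq_fintype_card, hn]
    rw [Nat.card_sigma, Finset.sum_congr rfl (fun o _ => hfib o), Finset.sum_const, Finset.card_univ,
      smul_eq_mul, h21] at h1
    omega
  -- the action of the centraliser on them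
  have hcu : ∀ (g : C) (u : ↥(P : Subgroup G)) (A : Sylow 3 G),
      (g : G) • u • A = u • (g : G) • A := by
    intro g u A
    show (g : G) • (u : G) • A = (u : G) • (g : G) • A
    rw [← mul_smul, ← mul_smul, Subgroup.mem_centralizer_iff.1 g.2 _ u.2]
  let m : C → O → O := fun g => Quotient.map' (fun A => (g : G) • A) (by
    intro A B hAB
    obtain ⟨u, hu⟩ := hAB
    exact ⟨u, by show u • (g : G) • B = (g : G) • A; rw [← hcu, ← hu]⟩)
  have hm1 : ∀ o, m 1 o = o := fun o => by
    induction o using Quotient.inductionOn' with | _ A => ?_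
    show q ((1 : G) • A) = q A
    rw [one_smul]
  have hmm : ∀ g h o, m (g * h) o = m g (m h o) := fun g h o => by
    induction o using Quotient.inductionOn' with | _ A => ?_
    show q (((g : G) * h) • A) = q ((g : G) • (h : G) • A)
    rw [mul_smul]
  have hmP : ∀ g, m g (q P) = q P := fun g => by
    show q ((g : G) • P) = q P
    rw [Sylow.smul_eq_iff_mem_normalizer.2 (hCN g.2)]
  let ρ : C →* Equiv.Perm S :=
    { toFun := fun g =>
        { toFun := fun o => ⟨m g o.1, fun h => o.2 (by
            rw [← hm1 o.1, ← inv_mul_cancel g, hmm, h, hmP])⟩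
          invFun := fun o => ⟨m g⁻¹ o.1, fun h => o.2 (by
            rw [← hm1 o.1, ← mul_inv_cancel g, hmm, h, hmP])⟩
          left_inv := fun o => Subtype.ext (by show m g⁻¹ (m g o.1) = o.1; rw [← hmm, inv_mul_cancel, hm1])
          right_inv := fun o => Subtype.ext (by show m g (m g⁻¹ o.1) = o.1; rw [← hmm, mul_inv_cancel, hm1]) }
      map_one' := Equiv.ext fun o => Subtype.ext (hm1 o.1)
      map_mul' := fun g h => Equiv.ext fun o => Subtype.ext (hmm g h o.1) }
  have hker : ρ.ker = (P : Subgroup G).subgroupOf C := by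
    apply le_antisymm
    · have hcube : ∀ g ∈ ρ.ker, (g : G) ^ 3 = 1 := by
        intro g hg
        apply FaithfulSMul.eq_of_smul_eq_smul (α := Sylow 3 G)
        intro A
        rw [one_smul]
        have hPA : ∀ n : ℕ, (g : G) ^ n • P = P := fun n =>
          Sylow.smul_eq_iff_mem_normalizer.2 (pow_mem (hCN g.2) n)
        by_cases hA : A = P
        · rw [hA]; exact hPA 3
        have h1 := congrFun (congrArg (⇑) (MonoidHom.mem_ker.1 hg)) ⟨q A, hneq A hA⟩
        obtain ⟨u, hu⟩ := (hq _ _).1 (congrArg Subtype.val h1 : q ((g : G) • A) = q A)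
        change u • A = (g : G) • A at hu
        have : ∀ n : ℕ, (g : G) ^ n • A = u ^ n • A := by
          intro n
          induction n with
          | zero => simp
          | succ n ih => rw [pow_succ', mul_smul, ih, hcu, ← hu, ← mul_smul, ← pow_succ]
        have hu3 : u ^ 3 = 1 := by
          have := pow_card_eq_one' (x := u)
          rwa [hP] at this
        rw [this, hu3, one_smul]
      have hpk : IsPGroup 3 (ρ.ker.map C.subtype) := by
        rintro ⟨y, g, hg, rfl⟩
        exact ⟨1, Subtype.ext (by simpa using hcube g hg)⟩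
      have hle : ρ.ker.map C.subtype ≤ N := (Subgroup.map_subtype_le _).trans hCN
      have := P.is_maximal' (hpk.to_sup_of_normal_right' P.isPGroup' hle) le_sup_right
      intro g hg
      rw [Subgroup.mem_subgroupOf]
      exact this ▸ (le_sup_left : _ ≤ ρ.ker.map C.subtype ⊔ P) (Subgroup.mem_map_of_mem _ hg)
    · intro g hg
      refine MonoidHom.mem_ker.2 (Equiv.ext fun o => Subtype.ext ?_)
      obtain ⟨A, hA, hAo⟩ := hrep o
      show m g o.1 = o.1
      rw [← hAo]
      exact (hq _ _).2 ⟨⟨g, hg⟩, rfl⟩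
  have hI : Nat.card ρ.range = c := by
    rw [← Subgroup.index_ker, hker]; rfl
  have hc560 : c ∣ 560 := by
    have h1 : c ∣ 5040 := by
      rw [← hI]
      refine (Subgroup.card_subgroup_dvd_card _).trans ?_
      rw [Nat.card_eq_fintype_card, Fintype.card_perm, hS7]
      exact dvd_of_eq rfl
    have h2 : Nat.Coprime c 9 := by
      rw [show (9 : ℕ) = 3 ^ 2 by norm_num]
      exact Nat.Coprime.pow_right _ ((Nat.prime_three.coprime_iff_not_dvd.2 h3c).symm)
    exact h2.dvd_of_dvd_mul_right (show c ∣ 560 * 9 from h1)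
  have h11c : ¬ 11 ∣ c := fun h => absurd (h.trans hc560) (by norm_num)
  -- the Sylow 11-subgroups
  have hR : ∀ R : Sylow 11 G, Nat.card R = 11 := fun R =>
    (Cfsg.Agent.SmallGroups.card_sylow_subgroup (p := 11) (a := 1) (m := 12 * c)
      (by rw [hGcard]; ring) (fun h => by
        rcases (Nat.Prime.dvd_mul (by norm_num)).1 h with h | h
        · norm_num at h
        · exact h11c h) R).trans (pow_one 11)
  have hfree : ∀ (R : Sylow 11 G) (A : Sylow 3 G), ¬ (R : Subgroup G) ≤ stabilizer G A := by
    intro R A hle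
    have h1 := Subgroup.card_dvd_of_le hle
    rw [hR] at h1
    have h2 : Nat.card (stabilizer G A) = 6 * c := by
      have := (stabilizer G A).card_mul_index
      rw [MulAction.index_stabilizer_of_transitive, hn, hGcard] at this
      omega
    rw [h2] at h1
    rcases (Nat.Prime.dvd_mul (by norm_num)).1 h1 with h | h
    · norm_num at h
    · exact h11c h
  have hC11 : ∀ R : Sylow 11 G, Subgroup.centralizer ((R : Subgroup G) : Set G) = (R : Subgroup G) :=
    fun R => centralizer_eleven hG (α := Sylow 3 G) R (hR R) (hfree R) (Or.inr hn)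
  obtain ⟨R⟩ : Nonempty (Sylow 11 G) := inferInstance
  obtain ⟨e, he, hecard⟩ := card_normalizer_eleven hG R (hR R) (hC11 R)
  set n := Nat.card (Sylow 11 G) with hn11
  have heq : e * n = 12 * c := by
    have h := (Subgroup.normalizer ((R : Subgroup G) : Set G)).card_mul_index
    rw [hecard, hGcard] at h
    have h2 : n = (Subgroup.normalizer ((R : Subgroup G) : Set G)).index := R.card_eq_index_normalizer
    rw [← h2] at h
    linarith
  have hmod : n % 11 = 1 := card_sylow_modEq_one 11 G
  have hcases : c ∈ [2, 5, 10, 35, 112, 280, 560] ∧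
      (c ∈ [2, 5, 10] → n = 12 ∧ e = c) := by
    have key : ∀ c ∈ Nat.divisors 560, ∀ e ∈ [2, 5, 10], e ∣ 12 * c → (12 * c / e) % 11 = 1 →
        c ∈ [2, 5, 10, 35, 112, 280, 560] ∧ (c ∈ [2, 5, 10] → 12 * c / e = 12 ∧ e = c) := by
      decide +kernel
    have he' : e ∈ [2, 5, 10] := by simpa using he
    have hdiv : 12 * c / e = n := by
      rw [← heq]
      exact Nat.mul_div_cancel_left _ (by rcases he with h | h | h <;> subst h <;> norm_num)
    obtain ⟨k1, k2⟩ := key c (Nat.mem_divisors.2 ⟨hc560, by norm_num⟩) e he' ⟨n, heq.symm⟩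
      (by rw [hdiv]; exact hmod)
    exact ⟨k1, fun h => by rw [← hdiv]; exact k2 h⟩
  obtain ⟨hc7, hsmall⟩ := hcases
  have hbig := card_ne_of_five_seven hS7 ρ.range
  rw [hI] at hbig
  have htop : 7 ∣ c → 16 ∣ c → False := by
    intro h7 h16
    have h := eq_top_of_sixteen_seven hS7 ρ.range (hI.symm ▸ h7) (hI.symm ▸ h16)
    rw [h, Subgroup.card_top, Nat.card_eq_fintype_card, Fintype.card_perm, hS7] at hI
    exact h3c ⟨1680, by rw [← hI]; rfl⟩
  have hc' : c = 2 ∨ c = 5 ∨ c = 10 := by
    simp only [List.mem_cons, List.not_mem_nil, or_false] at hc7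
    rcases hc7 with h | h | h | h | h | h | h
    · exact Or.inl h
    · exact Or.inr (Or.inl h)
    · exact Or.inr (Or.inr h)
    · exact absurd h hbig.1
    · exact (htop (h ▸ by norm_num) (h ▸ by norm_num)).elim
    · exact absurd h hbig.2
    · exact (htop (h ▸ by norm_num) (h ▸ by norm_num)).elim
  obtain ⟨hn12, hec⟩ := hsmall (by simpa using hc')
  subst hec
  have hncard : ∀ A : Sylow 11 G, Nat.card (stabilizer G A) = 11 * c := by
    intro A
    have := (stabilizer G A).card_mul_index
    rw [MulAction.index_stabilizer_of_transitive, ← hn11, hn12, hGcard] at this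
    omega
  have three : ∀ {z : G} {A B D : Sylow 11 G}, z • A = A → z • B = B → z • D = D → A ≠ B → A ≠ D →
      B ≠ D → z = 1 := fun {z A B D} => eq_one_of_three_fixed A B D hn12 hR hC11
  rcases hc' with hc2 | hc5
  · -- order 264
    have hfG : Fintype G := Fintype.ofFinite G
    have hf2 : Fact (Nat.Prime 2) := ⟨Nat.prime_two⟩
    obtain ⟨⟨t, htC⟩, ht⟩ := exists_prime_orderOf_dvd_card' 2 (G := C) (by rw [hCcard, hc2]; norm_num)
    rw [Subgroup.orderOf_mk] at ht
    -- elements of order six
    have h3 : Nat.card {g : G // orderOf g = 3} = 44 := by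
      rw [Cfsg.Agent.SmallGroups.card_orderOf_eq_prime (fun Q => by
        rw [Q.card_eq_multiplicity, ← P.card_eq_multiplicity, hP]), hn]
    have h11 : Nat.card {g : G // orderOf g = 11} = 120 := by
      rw [Cfsg.Agent.SmallGroups.card_orderOf_eq_prime hR, ← hn11, hn12]
    have hcomm : ∀ g : G, orderOf g = 3 → ∃ s : G, orderOf s = 2 ∧ Commute g s := by
      intro g hg
      obtain ⟨Q, hQ⟩ := IsPGroup.exists_le_sylow (p := 3)
        (IsPGroup.of_card (n := 1) (by rw [Nat.card_zpowers, hg, pow_one]) :
          IsPGroup 3 (Subgroup.zpowers g))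
      obtain ⟨x, hx⟩ := MulAction.exists_smul_eq G P Q
      refine ⟨x * t * x⁻¹, by rw [← ht]; exact MulEquiv.orderOf_eq (MulAut.conj x) t, ?_⟩
      have hgQ := hQ (Subgroup.mem_zpowers g)
      have h := (mem_smul_sylow P x g).1 (show g ∈ x • P by rw [hx]; exact hgQ)
      have := Subgroup.mem_centralizer_iff.1 htC _ h
      show g * (x * t * x⁻¹) = x * t * x⁻¹ * g
      calc g * (x * t * x⁻¹) = x * (x⁻¹ * g * x * t) * x⁻¹ := by group
        _ = x * (t * (x⁻¹ * g * x)) * x⁻¹ := by rw [this]
        _ = x * t * x⁻¹ * g := by group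
    choose sfun hsfun using hcomm
    have h6 : 44 ≤ Nat.card {g : G // orderOf g = 6} := by
      rw [← h3]
      refine Nat.card_le_card_of_injective
        (fun g => ⟨g.1 * sfun g.1 g.2, by
          obtain ⟨ho, hcm⟩ := hsfun g.1 g.2
          rw [hcm.orderOf_mul_eq_mul_orderOf_of_coprime (by rw [ho, g.2]; norm_num), g.2, ho]⟩) ?_
      intro g h hgh
      have hv : g.1 * sfun g.1 g.2 = h.1 * sfun h.1 h.2 := congrArg Subtype.val hgh
      have key : ∀ x : {g : G // orderOf g = 3}, (x.1 * sfun x.1 x.2) ^ 4 = x.1 := by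
        intro x
        obtain ⟨ho, hcm⟩ := hsfun x.1 x.2
        have e1 : x.1 ^ 3 = 1 := orderOf_dvd_iff_pow_eq_one.1 (dvd_of_eq x.2)
        have e2 : sfun x.1 x.2 ^ 2 = 1 := by rw [← ho]; exact pow_orderOf_eq_one _
        rw [hcm.mul_pow, show 4 = 3 + 1 from rfl, pow_succ x.1, e1, one_mul,
          show 3 + 1 = 2 * 2 from rfl, pow_mul, e2, one_pow, mul_one]
      exact Subtype.ext (by rw [← key g, ← key h, hv])
    -- involutions fixing two points
    have hfix2 : Fintype (Sylow 11 G) := Fintype.ofFinite _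
    have h2 : 66 ≤ Nat.card {g : G // orderOf g = 2} := by
      have hz : ∀ s : {s : Finset (Sylow 11 G) // s ∈ Finset.univ.powersetCard 2},
          ∃ z : G, orderOf z = 2 ∧ ∀ X : Sylow 11 G, z • X = X ↔ X ∈ s.1 := by
        rintro ⟨s, hs⟩
        obtain ⟨A, B, hAB, rfl⟩ := Finset.card_eq_two.1 (Finset.mem_powersetCard.1 hs).2
        set K := stabilizer G A ⊓ stabilizer G B with hK
        have hd : Nat.card K ∣ 22 := by
          have := Subgroup.card_dvd_of_le (inf_le_left : K ≤ stabilizer G A)
          rwa [hncard, hc2] at this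
        have hge : 2 ≤ Nat.card K := by
          have h1 := ((stabilizer G B).subgroupOf (stabilizer G A)).card_mul_index
          have h2 : ((stabilizer G B).subgroupOf (stabilizer G A)).index ≤ 11 := by
            have h : (stabilizer (↥(stabilizer G A)) B).index ≤ 11 := by
              rw [index_stabilizer]
              refine le_trans (Set.ncard_le_ncard (t := {A}ᶜ) ?_ (Set.toFinite _)) ?_
              · rintro X ⟨⟨g, hg⟩, rfl⟩ (hX : g • B = A)
                exact hAB (by rw [← inv_smul_smul g B, hX]; exact (inv_smul_eq_iff.2 hg.symm).symm)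
              · rw [Set.ncard_compl, Set.ncard_singleton, ← hn11, hn12]
            exact h
          rw [hncard, hc2] at h1
          rw [hK, ← Nat.card_congr (Subgroup.subgroupOfEquivOfLe
            (inf_le_left : stabilizer G A ⊓ stabilizer G B ≤ stabilizer G A)).toEquiv,
            Subgroup.inf_subgroupOf_left]
          nlinarith
        have h11K : ¬ 11 ∣ Nat.card K := by
          intro h
          obtain ⟨⟨x, hx⟩, hxo⟩ := exists_prime_orderOf_dvd_card' 11 h
          rw [Subgroup.orderOf_mk] at hxo
          have hp : IsPGroup 11 (Subgroup.zpowers x) :=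
            IsPGroup.of_card (n := 1) (by rw [Nat.card_zpowers, hxo, pow_one])
          have hin : ∀ X : Sylow 11 G, x ∈ stabilizer G X → Subgroup.zpowers x = X := by
            intro X hX
            have hle : Subgroup.zpowers x ≤ Subgroup.normalizer ((X : Subgroup G) : Set G) :=
              Subgroup.zpowers_le.2 (Sylow.smul_eq_iff_mem_normalizer.1 hX)
            have := X.is_maximal' (hp.to_sup_of_normal_right' X.isPGroup' hle) le_sup_right
            refine Subgroup.eq_of_le_of_card_ge (this ▸ le_sup_left) ?_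
            rw [Nat.card_zpowers, hxo, hR]
          exact hAB (Sylow.ext ((hin A hx.1).symm.trans (hin B hx.2)))
        have hK2 : Nat.card K = 2 := by
          have hm : Nat.card K ∈ Nat.divisors 22 := Nat.mem_divisors.2 ⟨hd, by norm_num⟩
          rw [show Nat.divisors 22 = {1, 2, 11, 22} by decide] at hm
          simp only [Finset.mem_insert, Finset.mem_singleton] at hm
          rcases hm with h | h | h | h
          · omega
          · exact h
          · exact absurd (show 11 ∣ Nat.card K by rw [h]) h11K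
          · exact absurd (show 11 ∣ Nat.card K by rw [h]; norm_num) h11K
        obtain ⟨⟨z, hzK⟩, hz⟩ := exists_prime_orderOf_dvd_card' 2 (G := K) (by rw [hK2])
        rw [Subgroup.orderOf_mk] at hz
        refine ⟨z, hz, fun X => ⟨fun hX => ?_, fun hX => ?_⟩⟩
        · by_contra hne
          simp only [Finset.mem_insert, Finset.mem_singleton, not_or] at hne
          have := three hzK.1 hzK.2 hX hAB (Ne.symm hne.1) (Ne.symm hne.2)
          rw [this, orderOf_one] at hz
          norm_num at hz
        · simp only [Finset.mem_insert, Finset.mem_singleton] at hX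
          rcases hX with rfl | rfl
          · exact hzK.1
          · exact hzK.2
      choose zf hzf using hz
      have hcard : Nat.card {s : Finset (Sylow 11 G) // s ∈ Finset.univ.powersetCard 2} = 66 := by
        rw [Nat.card_eq_fintype_card, Fintype.card_coe, Finset.card_powersetCard, Finset.card_univ,
          ← Nat.card_eq_fintype_card, ← hn11, hn12]
        rfl
      rw [← hcard]
      refine Nat.card_le_card_of_injective (fun s => ⟨zf s, (hzf s).1⟩) ?_
      intro s s' h
      have h' : zf s = zf s' := congrArg Subtype.val h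
      exact Subtype.ext (Finset.ext fun X => by rw [← (hzf s).2 X, h', (hzf s').2 X])
    have hsum := Finset.card_biUnion (s := ({1, 2, 3, 6, 11} : Finset ℕ))
      (t := fun o => Finset.univ.filter fun g : G => orderOf g = o)
      (fun a _ b _ hab => Finset.disjoint_filter.2 fun g _ h1 h2 => hab (h1.symm.trans h2))
    have hle := Finset.card_le_univ (({1, 2, 3, 6, 11} : Finset ℕ).biUnion
      fun o => Finset.univ.filter fun g : G => orderOf g = o)
    rw [hsum] at hle
    simp only [← Fintype.card_subtype, ← Nat.card_eq_fintype_card] at hle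
    rw [hGcard, hc2] at hle
    simp only [Finset.sum_insert, Finset.mem_insert, Finset.mem_singleton, Finset.sum_singleton,
      Nat.reduceEqDiff, or_self, not_false_eq_true] at hle
    have h1 : Nat.card {g : G // orderOf g = 1} = 1 := by
      simp only [orderOf_eq_one_iff]
      rw [Nat.card_eq_fintype_card, Fintype.card_subtype_eq]
    omega
  · -- an element of order five centralising `P`
    have h5c : 5 ∣ c := by rcases hc5 with h | h <;> rw [h] <;> norm_num
    have hf5 : Fact (Nat.Prime 5) := ⟨by norm_num⟩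
    obtain ⟨⟨t, htC⟩, ht⟩ := exists_prime_orderOf_dvd_card' 5 (G := C)
      (by rw [hCcard]; exact h5c.mul_left 3)
    rw [Subgroup.orderOf_mk] at ht
    have htp : IsPGroup 5 (Subgroup.zpowers t) :=
      IsPGroup.of_card (n := 1) (by rw [Nat.card_zpowers, ht, pow_one])
    have hfix := htp.card_modEq_card_fixedPoints (Sylow 11 G)
    rw [← hn11, hn12] at hfix
    unfold Nat.ModEq at hfix
    have hfixed : ∀ X ∈ fixedPoints (Subgroup.zpowers t) (Sylow 11 G), t • X = X := fun X hX =>
      hX ⟨t, Subgroup.mem_zpowers t⟩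
    obtain ⟨⟨A, hA⟩, ⟨B, hB⟩, hne⟩ : ∃ A B : fixedPoints (Subgroup.zpowers t) (Sylow 11 G), A ≠ B := by
      have : 1 < Nat.card (fixedPoints (Subgroup.zpowers t) (Sylow 11 G)) := by omega
      rw [Finite.one_lt_card_iff_nontrivial] at this
      exact exists_pair_ne _
    have hAB : A ≠ B := fun h => hne (Subtype.ext h)
    have ht1 : t ≠ 1 := fun h => by rw [h, orderOf_one] at ht; norm_num at ht
    have honly : ∀ X : Sylow 11 G, t • X = X → X = A ∨ X = B := fun X hX => by
      by_contra h
      rw [not_or] at h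
      exact ht1 (three (hfixed A hA) (hfixed B hB) hX hAB (Ne.symm h.1) (Ne.symm h.2))
    have hPA : (P : Subgroup G) ≤ stabilizer G A := by
      intro u hu
      have hcmu : ∀ X : Sylow 11 G, t • X = X → t • u • X = u • X := fun X hX => by
        rw [← mul_smul, ← Subgroup.mem_centralizer_iff.1 htC u hu, mul_smul, hX]
      have hu3 : u ^ 3 = 1 := by
        have := pow_card_eq_one' (x := (⟨u, hu⟩ : ↥(P : Subgroup G)))
        rw [hP] at this
        simpa using congrArg Subtype.val this
      rcases honly _ (hcmu A (hfixed A hA)) with h | h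
      · exact h
      exfalso
      rcases honly _ (hcmu B (hfixed B hB)) with h' | h'
      · have : u ^ 3 • A = B := by rw [pow_succ, pow_two, mul_smul, mul_smul, h, h', h]
        rw [hu3, one_smul] at this
        exact hAB this
      · exact hAB (smul_left_cancel u (h.trans h'.symm))
    have := Subgroup.card_dvd_of_le hPA
    rw [hP, hncard] at this
    rcases hc5 with h | h <;> rw [h] at this <;> norm_num at this

end

end Cfsg.Agent.SylowNum
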