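import Mathlib
import Cfsg.Agent.SmallGroups.Basic

/-!
# Tools for counting arguments with Sylow subgroups
-/

namespace Cfsg.Agent.SylowNum

open MulAction

variable {G : Type*} [Group G] [Finite G]

omit [Finite G] in
theorem mem_smul_sylow {p : ℕ} (R : Sylow p G) (g y : G) : y ∈ g • R ↔ g⁻¹ * y * g ∈ R := by
  show y ∈ ((g • R : Sylow p G) : Subgroup G) ↔ _
  rw [Sylow.coe_subgroup_smul, Subgroup.mem_pointwise_smul_iff_inv_smul_mem, ← map_inv,
    MulAut.smul_def, MulAut.conj_apply, inv_inv]
  rfl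

omit [Finite G] in
theorem stabilizer_sylow_eq {p : ℕ} (A B : Sylow p G) :
    stabilizer (↥(A : Subgroup G)) B = (B : Subgroup G).subgroupOf A := by
  ext a
  rw [mem_stabilizer_iff, Subgroup.mem_subgroupOf, Subgroup.smul_def,
    Sylow.smul_eq_iff_mem_normalizer]
  constructor
  · intro ha
    have : (a : G) ∈ (A : Subgroup G) ⊓ Subgroup.normalizer (B : Set G) := ⟨a.2, ha⟩
    rw [A.isPGroup'.inf_normalizer_sylow] at this
    exact this.2
  · exact fun ha => Subgroup.le_normalizer ha

theorem card_orbit_sylow {p : ℕ} [Fact p.Prime] (A B : Sylow p G) :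
    Nat.card (orbit (↥(A : Subgroup G)) B) = (B : Subgroup G).relIndex A := by
  rw [Nat.card_coe_set_eq, ← index_stabilizer, stabilizer_sylow_eq]
  rfl

theorem relIndex_sylow_eq_pow {p : ℕ} [Fact p.Prime] (A B : Sylow p G) (hAB : A ≠ B) :
    ∃ k, k ≠ 0 ∧ (B : Subgroup G).relIndex A = p ^ k := by
  obtain ⟨k, hk⟩ := A.isPGroup'.card_orbit B
  rw [card_orbit_sylow] at hk
  refine ⟨k, ?_, hk⟩
  rintro rfl
  rw [pow_zero, Subgroup.relIndex_eq_one] at hk
  exact hAB (Sylow.ext (A.is_maximal' B.isPGroup' hk).symm)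

theorem card_inf_mul_relIndex {p : ℕ} (A B : Sylow p G) :
    Nat.card ↥((A : Subgroup G) ⊓ B) * (B : Subgroup G).relIndex A = Nat.card A := by
  have h := ((B : Subgroup G).subgroupOf A).card_mul_index
  rw [← Nat.card_congr (Subgroup.subgroupOfEquivOfLe
    (inf_le_left : (A : Subgroup G) ⊓ B ≤ A)).toEquiv, Subgroup.inf_subgroupOf_left]
  exact h

theorem relIndex_sylow_comm {p : ℕ} [Fact p.Prime] (A B : Sylow p G) :
    (B : Subgroup G).relIndex A = (A : Subgroup G).relIndex B := by
  have h1 := card_inf_mul_relIndex A B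
  have h2 := card_inf_mul_relIndex B A
  rw [inf_comm, B.card_eq_multiplicity] at h2
  rw [A.card_eq_multiplicity, ← h2] at h1
  exact Nat.eq_of_mul_eq_mul_left Nat.card_pos h1

theorem inf_normal_of_relIndex {p : ℕ} [Fact p.Prime] (A B : Sylow p G)
    (h : (B : Subgroup G).relIndex A = p) :
    ((B : Subgroup G).subgroupOf A).Normal := by
  have hp : p.Prime := Fact.out
  obtain ⟨k, hk⟩ := A.isPGroup'.exists_card_eq
  have hk0 : k ≠ 0 := by
    rintro rfl
    have := ((B : Subgroup G).subgroupOf A).index_dvd_card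
    rw [show ((B : Subgroup G).subgroupOf A).index = p from h, hk, pow_zero, Nat.dvd_one] at this
    exact hp.ne_one this
  refine Subgroup.normal_of_index_eq_minFac_card ?_
  rw [show ((B : Subgroup G).subgroupOf A).index = p from h, hk, Nat.pow_minFac hk0, hp.minFac_eq]

/-- In a non-commutative simple group, if any two Sylow `p`-subgroups meet in index `p`, then they
have order `p`. -/
theorem card_eq_of_relIndex_eq [IsSimpleGroup G] (hG : ¬ IsMulCommutative G) {p : ℕ} [Fact p.Prime]
    (hp : p ∣ Nat.card G) (hidx : ∀ A B : Sylow p G, A ≠ B → (B : Subgroup G).relIndex A = p)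
    (P : Sylow p G) : Nat.card P = p := by
  -- a subgroup inside all Sylow subgroups is trivial
  have htriv : ∀ x : G, (∀ R : Sylow p G, x ∈ R) → x = 1 := by
    intro x hx
    set I : Subgroup G := ⨅ R : Sylow p G, (R : Subgroup G) with hI
    have hn' : I.Normal := ⟨fun y hy g => by
      rw [hI, Subgroup.mem_iInf] at hy ⊢
      intro R
      have := (mem_smul_sylow R g⁻¹ y).1 (hy (g⁻¹ • R))
      show g * y * g⁻¹ ∈ R
      simpa using this⟩
    rcases Cfsg.Agent.SmallGroups.one_lt_card_sylow hG hp, hn'.eq_bot_or_eq_top with ⟨h1, h | h⟩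
    · have hxI : x ∈ I := by rw [hI, Subgroup.mem_iInf]; exact hx
      exact Subgroup.mem_bot.1 (h ▸ hxI)
    · exfalso
      have hall : ∀ R : Sylow p G, (R : Subgroup G) = ⊤ := fun R =>
        top_le_iff.1 (h ▸ (iInf_le (fun R : Sylow p G => (R : Subgroup G)) R))
      rw [Finite.one_lt_card_iff_nontrivial] at h1
      obtain ⟨R₁, R₂, hne⟩ := exists_pair_ne (Sylow p G)
      exact hne (Sylow.ext ((hall R₁).trans (hall R₂).symm))
  have hcard : ∀ A B : Sylow p G, A ≠ B →
      Nat.card ↥((A : Subgroup G) ⊓ B) * p = Nat.card A := fun A B hAB => by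
    have h := card_inf_mul_relIndex A B
    rwa [hidx A B hAB] at h
  have hcomm : ∀ A : Sylow p G, ∀ x ∈ (A : Subgroup G), ∀ y ∈ (A : Subgroup G), x * y = y * x := by
    intro A x hx y hy
    have hc : x * y * x⁻¹ * y⁻¹ = 1 := by
      refine htriv _ fun B => ?_
      by_cases hAB : A = B
      · subst hAB
        exact mul_mem (mul_mem (mul_mem hx hy) (inv_mem hx)) (inv_mem hy)
      set K := (B : Subgroup G).subgroupOf (A : Subgroup G) with hK
      have hKn : K.Normal := inf_normal_of_relIndex A B (hidx A B hAB)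
      have hq : Nat.card (↥(A : Subgroup G) ⧸ K) = p := hidx A B hAB
      have := isCyclic_of_prime_card hq
      have hc' := (IsCyclic.commGroup (α := ↥(A : Subgroup G) ⧸ K)).mul_comm
        ((⟨x, hx⟩ : ↥(A : Subgroup G))) ((⟨y, hy⟩ : ↥(A : Subgroup G)))
      have : (⟨x, hx⟩ * ⟨y, hy⟩ * ⟨x, hx⟩⁻¹ * ⟨y, hy⟩⁻¹ : ↥(A : Subgroup G)) ∈ K := by
        rw [← QuotientGroup.eq_one_iff]
        simp only [QuotientGroup.mk_mul, QuotientGroup.mk_inv]
        rw [hc']; group
      exact this
    calc x * y = (x * y * x⁻¹ * y⁻¹) * (y * x) := by group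
      _ = y * x := by rw [hc, one_mul]
  obtain ⟨Q, hQ⟩ : ∃ Q, Q ≠ P := by
    have := Cfsg.Agent.SmallGroups.one_lt_card_sylow hG hp
    rw [Finite.one_lt_card_iff_nontrivial] at this
    exact exists_ne P
  set D := (P : Subgroup G) ⊓ Q with hD
  have hDbot : D = ⊥ := by
    refine (Subgroup.eq_bot_iff_forall _).2 fun d hd => htriv d fun R => ?_
    set C := Subgroup.centralizer (D : Set G) with hC
    have hPC : (P : Subgroup G) ≤ C := fun x hx => Subgroup.mem_centralizer_iff.2
      fun z hz => hcomm P z hz.1 x hx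
    have hQC : (Q : Subgroup G) ≤ C := fun x hx => Subgroup.mem_centralizer_iff.2
      fun z hz => hcomm Q z hz.2 x hx
    obtain ⟨T, hT⟩ := IsPGroup.exists_le_sylow
      (R.isPGroup'.comap_of_injective C.subtype C.subtype_injective)
    obtain ⟨c, hc⟩ := MulAction.exists_smul_eq C (P.subtype hPC) T
    have hcD : ∀ z ∈ D, (c : G)⁻¹ * z * c = z := fun z hz => by
      rw [mul_assoc, Subgroup.mem_centralizer_iff.1 c.2 z hz, inv_mul_cancel_left]
    have hRC : ∀ y ∈ (R : Subgroup G), y ∈ C → y ∈ (c : G) • P := by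
      intro y hyR hyC
      have : (⟨y, hyC⟩ : C) ∈ (T : Subgroup C) := hT hyR
      rw [← hc, Sylow.smul_subtype, Sylow.coe_subtype, Subgroup.mem_subgroupOf] at this
      exact this
    set Q' := (c : G) • Q with hQ'
    have hle : (R : Subgroup G) ⊓ Q' ≤ D := by
      rintro y ⟨hyR, hyQ⟩
      have hyQ' := (mem_smul_sylow Q c y).1 hyQ
      have hyC : y ∈ C := by
        have := C.mul_mem (C.mul_mem c.2 (hQC hyQ')) (C.inv_mem c.2)
        simpa [mul_assoc] using this
      have hyP := (mem_smul_sylow P c y).1 (hRC y hyR hyC)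
      have hz : (c : G)⁻¹ * y * c ∈ D := ⟨hyP, hyQ'⟩
      have := Subgroup.mem_centralizer_iff.1 c.2 _ hz
      have e : y = (c : G)⁻¹ * y * c := by
        calc y = (c : G) * ((c : G)⁻¹ * y * c) * (c : G)⁻¹ := by group
          _ = (c : G)⁻¹ * y * c * c * (c : G)⁻¹ := by rw [this]
          _ = (c : G)⁻¹ * y * c := by group
      rw [e]; exact hz
    by_cases hRQ : R = Q'
    · rw [hRQ]
      show d ∈ Q'
      rw [hQ', mem_smul_sylow, hcD d hd]
      exact hd.2
    · have h1 := hcard R Q' hRQ
      have h2 := hcard P Q (Ne.symm hQ)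
      rw [P.card_eq_multiplicity] at h2
      rw [R.card_eq_multiplicity] at h1
      have : (R : Subgroup G) ⊓ Q' = D := by
        apply Subgroup.eq_of_le_of_card_ge hle
        have := Nat.eq_of_mul_eq_mul_right (Fact.out : p.Prime).pos (h1.trans h2.symm)
        exact this.ge
      exact (this.ge hd).1
  have := hcard P Q (Ne.symm hQ)
  rw [← hD, hDbot, Subgroup.card_bot, one_mul] at this
  exact this.symm

/-- In a non-commutative simple group every element of square one moves a number of points divisible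
by four. -/
theorem four_dvd_card_moved [IsSimpleGroup G] (hG : ¬ IsMulCommutative G) {α : Type*} [MulAction G α]
    [Finite α] (z : G) (hz : z * z = 1) : 4 ∣ Nat.card {a : α // z • a ≠ a} := by
  classical
  have := Fintype.ofFinite α
  set σ : Equiv.Perm α := MulAction.toPermHom G α z with hσ
  have hsupp : Nat.card {a : α // z • a ≠ a} = σ.support.card := by
    rw [Nat.card_eq_fintype_card, Fintype.card_subtype]
    congr 1
  rw [hsupp]
  by_cases h1 : σ = 1
  · simp [h1]
  have h2 : orderOf σ = 2 := by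
    refine orderOf_eq_prime ?_ h1
    rw [pow_two, hσ, ← map_mul, hz, map_one]
  obtain ⟨n, hn⟩ := Equiv.Perm.cycleType_prime_order (σ := σ) (by rw [h2]; exact Nat.prime_two)
  rw [h2] at hn
  have hs := σ.sum_cycleType
  rw [hn, Multiset.sum_replicate, smul_eq_mul] at hs
  by_contra h4
  have hodd : Odd (n + 1) := by
    rw [Nat.odd_iff]
    rcases Nat.mod_two_eq_zero_or_one (n + 1) with h | h
    · exfalso; apply h4; omega
    · exact h
  have hsign : Equiv.Perm.sign σ = -1 := by
    rw [Equiv.Perm.sign_of_cycleType, hn, Multiset.sum_replicate, Multiset.card_replicate, smul_eq_mul,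
      show (n + 1) * 2 + (n + 1) = 2 * (n + 1) + (n + 1) by ring, pow_add, pow_mul, neg_one_sq,
      one_pow, one_mul, hodd.neg_one_pow]
  set φ : G →* ℤˣ := Equiv.Perm.sign.comp (MulAction.toPermHom G α) with hφ
  rcases Cfsg.Agent.SmallGroups.injective_or_trivial φ with h | h
  · exact hG ⟨⟨fun a b => h (by rw [map_mul, map_mul, mul_comm])⟩⟩
  · have := h z
    rw [hφ, MonoidHom.comp_apply, ← hσ, hsign] at this
    exact absurd this (by decide)

/-- Fixed points of a coprime operator in an orbit of a `p`-group. -/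
theorem card_fixed_in_orbit {α : Type*} [MulAction G α] [Finite α] {p q : ℕ} [Fact p.Prime] [Fact q.Prime]
    (hpq : p ≠ q) (P : Subgroup G) (hP : IsPGroup p P) (t : G)
    (htn : ∀ u ∈ P, t * u * t⁻¹ ∈ P) (htq : t ^ q = 1) (a : α) (ha : t • a = a) :
    ∃ i, Nat.card {b : α // b ∈ orbit P a ∧ t • b = b} = p ^ i := by
  classical
  set C : Subgroup G := P ⊓ Subgroup.centralizer {t} with hC
  have hCP : IsPGroup p C := hP.to_le inf_le_left
  obtain ⟨i, hi⟩ := hCP.card_orbit a
  refine ⟨i, ?_⟩
  rw [← hi]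
  refine Nat.card_congr (Equiv.subtypeEquivRight fun b => ?_)
  constructor
  · rintro ⟨⟨⟨u, hu⟩, hub⟩, hb⟩
    change u • a = b at hub
    -- elements of `P` moving `a` to `b`
    let T := {v : P // v • a = b}
    have hconj : ∀ v : T, (⟨t * v.1.1 * t⁻¹, htn _ v.1.2⟩ : P) • a = b := by
      intro v
      have hv : (v.1.1 : G) • a = b := v.2
      show (t * v.1.1 * t⁻¹) • a = b
      rw [mul_smul, mul_smul, inv_smul_eq_iff.2 ha.symm, hv, hb]
    let f : T → T := fun v => ⟨_, hconj v⟩
    have hf : Function.Injective f := fun v w h => by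
      have := congrArg (fun x : T => (x.1.1 : G)) h
      exact Subtype.ext (Subtype.ext (mul_left_cancel (mul_right_cancel this)))
    let σ : Equiv.Perm T := Equiv.ofBijective f ((Finite.injective_iff_bijective).1 hf)
    have hσn : ∀ (n : ℕ) (v : T), (((σ ^ n) v).1.1 : G) = t ^ n * v.1.1 * (t ^ n)⁻¹ := by
      intro n
      induction n with
      | zero => intro v; simp
      | succ n ih =>
        intro v
        rw [pow_succ' σ, Equiv.Perm.mul_apply]
        show t * ((σ ^ n) v).1.1 * t⁻¹ = _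
        rw [ih, pow_succ' t]; group
    have hT : ¬ q ∣ Nat.card T := by
      obtain ⟨j, hj⟩ := (hP.to_subgroup (stabilizer P a)).exists_card_eq
      have : Nat.card T = p ^ j := by
        rw [← hj]
        refine Nat.card_congr ?_
        exact {
          toFun := fun v => ⟨(⟨u, hu⟩ : P)⁻¹ * v.1, by
            rw [mem_stabilizer_iff, mul_smul, v.2, inv_smul_eq_iff]; exact hub.symm⟩
          invFun := fun s => ⟨(⟨u, hu⟩ : P) * s.1, by rw [mul_smul, mem_stabilizer_iff.1 s.2]; exact hub⟩
          left_inv := fun v => by simp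
          right_inv := fun s => by simp }
      rw [this]
      intro hd
      exact hpq ((Nat.prime_dvd_prime_iff_eq Fact.out Fact.out).1
        ((Fact.out : q.Prime).dvd_of_dvd_pow hd)).symm
    have : Fintype T := Fintype.ofFinite T
    rw [Nat.card_eq_fintype_card] at hT
    obtain ⟨v, hv⟩ := Equiv.Perm.exists_fixed_point_of_prime (n := 1) hT (σ := σ) (by
      refine Equiv.ext fun v => Subtype.ext (Subtype.ext ?_)
      rw [pow_one, hσn, htq]; simp)
    refine ⟨⟨v.1.1, v.1.2, Subgroup.mem_centralizer_singleton_iff.2 ?_⟩, v.2⟩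
    have := congrArg (fun x : T => (x.1.1 : G)) hv
    change t * v.1.1 * t⁻¹ = v.1.1 at this
    exact (mul_inv_eq_iff_eq_mul.1 this).symm
  · rintro ⟨⟨u, huP, hut⟩, rfl⟩
    refine ⟨⟨⟨u, huP⟩, rfl⟩, ?_⟩
    show t • (u • a) = u • a
    rw [← mul_smul, ← Subgroup.mem_centralizer_singleton_iff.1 hut, mul_smul, ha]

end Cfsg.Agent.SylowNum
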